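import Cfsg.Agent.SporadicRecognition.CosetCert

/-! Coset enumeration certificate (level 3 of 6) for the universal 2-cover of `Ω₈⁺(2)`. -/

set_option autoImplicit false
set_option maxRecDepth 100000

namespace Cfsg.Agent.OddHalf.D9.EEight.Id.CertL3

open Cfsg.Agent.SporadicRecognition.CosetCert

noncomputable def tree : Tr := (.L 0xfffc8fcafbcfbefc4fc6fc0fc2fbaeb4b0fffa4ea6eb0eb2ea8eaaea2b9c7aebb8f2947ffffff7e9785849ffffffffffff8276987fffffffff704ffffffffffffffffff6fff6ab68b6cb6eb6676038a7a0eb6face48c3ffffff5e6ffffffffffff583ffffff28e3ffffff5257cdfff86d563ffffff4c30923ffffff4a474cffffffffffff443fff1fff4274073a33423e364b9ee88b80d76c6902fffffffff5cafffffffff302ffffff2962ffffff7ad509fffffffffffffff2a209a2ffffff72c488ffffffffffff262fff1fff2021a124238762b3c75aa5494e94688fff1211e33672231621823262e52c52849fff1c31421010e10c10a1081061041021f)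

noncomputable def wtree : WT := (.N 14 (.N 7 (.N 3 (.N 1 (.L 5 [9,5,7,4,8]) (.N 2 (.L 8 [9,9]) (.L 6 [5,9,4,6,9]))) (.N 5 (.N 4 (.L 2 [9,2,0,8,1]) (.L 6 [7,7])) (.N 6 (.L 4 [9,4,6,9,7]) (.L 8 [5,7,4,8,4])))) (.N 10 (.N 8 (.L 6 [1,6,0]) (.N 9 (.L 6 [0,6,1]) (.L 2 [8,2,0,9,1]))) (.N 12 (.N 11 (.L 6 [2,6,4,7,3]) (.L 4 [5,5])) (.N 13 (.L 8 [4,6,9,7,5]) (.L 7 [4,8,5,9,5]))))) (.N 21 (.N 17 (.N 15 (.L 0 [6,0,7]) (.N 16 (.L 1 [6,1,7]) (.L 5 [7,3,7,2,6]))) (.N 19 (.N 18 (.L 2 [5,1,4,0,4]) (.L 10 [4,2,5,2,4,3])) (.N 20 (.L 2 [3,3]) (.L 9 [2,0,9,1,3])))) (.N 24 (.N 22 (.L 5 [3,5,2,5,3]) (.N 23 (.L 0 [4,0,4,3,5]) (.L 7 [2,6,5,7,3]))) (.N 26 (.N 25 (.L 0 [1,1]) (.L 7 [0,7,1])) (.N 27 (.L 3 [1,3,0,3,1]) (.L 5 [0,4,3,5,1]))))))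

noncomputable def stree : ST := (.N 2 (.N 1 (.L 0 [] []) (.L 2 [] [])) (.N 3 (.L 4 [] []) (.L 6 [] [])))

noncomputable def C : Cert where
  data := tree
  lm := 15
  rb := 136
  fb := 12
  mask := 4095
  B := 32
  k := 10
  N := 15
  inv := fun x => bif Nat.beq x 0 then 1 else bif Nat.beq x 1 then 0 else bif Nat.beq x 2 then 3 else bif Nat.beq x 3 then 2 else bif Nat.beq x 4 then 5 else bif Nat.beq x 5 then 4 else bif Nat.beq x 6 then 7 else bif Nat.beq x 7 then 6 else bif Nat.beq x 8 then 9 else bif Nat.beq x 9 then 8 else x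
  words := wtree
  subs := stree

def rels : List (List Nat) := [[0,0,0], [2,2,2], [4,4,4], [6,6,6], [8,8,8], [1,7,0,6], [3,5,2,5,3,4], [1,3,9,2,0,8], [5,9,4,6,9,7], [5,7,4,8,4,9], [3,7,2,6,4,7], [0,3,0,2,1,2], [1,5,0,4,2,5]]

def subw : List (List Nat) := [[0], [2], [4], [6]]

theorem c0 : Part C 0 15 7 := runChunk_sound C 7 (by decide +kernel : runChunk C 9 511 0x28602c980b6602d18080401a180ae602a980804010160c00000100606000000000020000000010000000000000004c3698080401014cc05630000004000000000010000000000110c00020100000010000004430000000000080004630100404b30144de6e30000000a30000000010000000000120c00000000000010000004730000000000080004010110c04530124c04020084c0423018080433010080402010d40425010540405 17 131071 0x484723b380000024d222781038000092ee487723bb8000000000000 0 15 = 8)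

theorem all : Part C 0 15 7 := c0

theorem part : Part C 0 C.N 7 := all

end Cfsg.Agent.OddHalf.D9.EEight.Id.CertL3
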