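import Cfsg.Agent.SporadicRecognition.CosetCert

/-! Coset enumeration certificate (level 4 of 6) for the universal 2-cover of `Ω₈⁺(2)`. -/

set_option autoImplicit false
set_option maxRecDepth 100000

namespace Cfsg.Agent.OddHalf.D9.EEight.Id.CertL4

open Cfsg.Agent.SporadicRecognition.CosetCert

noncomputable def tree : Tr := (.N 16 (.L 0xf09ffffff7b1fff74f6e6ffffff2e0affffff68efff626730ffffff3e83fffffffff66ffff6cd606fff1e47ffffff5ec5846aefffffffff4e26ffffff5445cd811fffffffff5ee2fffffffff503ffffffffffff4ec7ffffff4c3fffc18fffffffff5fff4894a9bc9be9468403f27af92cc7fff3e7ab8a773834499b6fff3fff3c89753663029148d38527914e63ffffff2a234771064fffffff5de2fffffffffffffff262ffffff2dc2fff2e65ad56c222fffffffff3fff1c216152b4ea4293a81e32036fff0e11a33272c62852441221427fff1831020c10a1081061041021f) (.L 0xf52b19b39bb9b99b79b59ac9fff1d26fffffffffa88fffc2affffff4d02ffffffa48fffc57c77ffffff5cf2fff9f2ffffffa36a16fff9880d47947fffffffffffffffffffff7ca3fffffffffffffff8e7ffffff2c89ffffffffffff8a7934ffffff3fff9d6db2f92f72d92d728918270ea9fffffffff7d0fff7ec7678721))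

noncomputable def wtree : WT := (.N 11 (.N 5 (.N 2 (.N 1 (.L 1 [7,1,6]) (.L 6 [7,7])) (.N 3 (.L 1 [6,1,7]) (.N 4 (.L 6 [3,7,2,6,4]) (.L 4 [5,5])))) (.N 8 (.N 6 (.L 7 [4,7,3,7,2]) (.N 7 (.L 2 [3,3]) (.L 7 [2,6,5,7,3]))) (.N 9 (.L 4 [1,5,0,4,2]) (.N 10 (.L 3 [4,3,4,2,5]) (.L 5 [2,5,1,5,0]))))) (.N 16 (.N 13 (.N 12 (.L 2 [4,3,5,2,5]) (.L 0 [1,1])) (.N 14 (.L 7 [0,7,1]) (.N 15 (.L 2 [0,3,1,2,1]) (.L 7 [1,7,0])))) (.N 19 (.N 17 (.L 2 [1,2,1,3,0]) (.N 18 (.L 4 [7,3,6,2,6]) (.L 5 [0,4,3,5,1]))) (.N 20 (.L 3 [5,3,4,3,5]) (.N 21 (.L 3 [5,2,4,3,4]) (.L 8 [6,5,7,3,6,2]))))))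

noncomputable def stree : ST := (.N 1 (.L 0 [] []) (.N 2 (.L 2 [] []) (.L 4 [] [])))

noncomputable def C : Cert where
  data := tree
  lm := 15
  rb := 112
  fb := 12
  mask := 4095
  B := 32
  k := 8
  N := 25
  inv := fun x => bif Nat.beq x 0 then 1 else bif Nat.beq x 1 then 0 else bif Nat.beq x 2 then 3 else bif Nat.beq x 3 then 2 else bif Nat.beq x 4 then 5 else bif Nat.beq x 5 then 4 else bif Nat.beq x 6 then 7 else bif Nat.beq x 7 then 6 else x
  words := wtree
  subs := stree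

def rels : List (List Nat) := [[0,0,0], [2,2,2], [4,4,4], [6,6,6], [1,7,0,6], [3,5,2,5,3,4], [3,7,2,6,4,7], [0,3,0,2,1,2], [1,5,0,4,2,5]]

def subw : List (List Nat) := [[0], [2], [4]]

theorem c0 : Part C 0 25 6 := runChunk_sound C 6 (by decide +kernel : runChunk C 9 511 0x7980805130140c0200000000001000080000000000200a180800000000800000138c00010080000000000000000000000000000400000000000000098c000069d530984aa5500401000000002002cc02c30000146000100400000000004000098c00000000000830000802000000004014980000000000002430100000000000000010000000000000002009980000003980a46020100608020000804020098c0400298080401010080402000000243010080000000000000000040000000cc04020080000000100404020100846020084c0402010080602010080425010540405 18 262143 0x2080731d5cc74731c5ce6674489c0156000004b37114dee5274b95c235708d1d62575891c0000920dc000008d9ec137b049c0000000000000 0 25 = 7)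

theorem all : Part C 0 25 6 := c0

theorem part : Part C 0 C.N 6 := all

end Cfsg.Agent.OddHalf.D9.EEight.Id.CertL4
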