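import Cfsg.Agent.SporadicRecognition.CosetCert

/-! Coset enumeration certificate (level 5 of 6) for the universal 2-cover of `Ω₈⁺(2)`. -/

set_option autoImplicit false
set_option maxRecDepth 100000

namespace Cfsg.Agent.OddHalf.D9.EEight.Id.CertL5

open Cfsg.Agent.SporadicRecognition.CosetCert

noncomputable def tree : Tr := (.L 0xffe288e2589221778c3ff69db76596274e082a0d34ffd0261fffffce72ffffffffffffcd2098bff49bff54cb23d47ff28871512977e1c74ffc5124d77458e53117ff20c621043108411f)

noncomputable def wtree : WT := (.N 5 (.N 2 (.N 1 (.L 4 [5,5]) (.L 0 [1,1])) (.N 3 (.L 4 [1,5,0,4,2]) (.N 4 (.L 3 [4,3,4,2,5]) (.L 2 [3,3])))) (.N 7 (.N 6 (.L 5 [3,5,2,5,3]) (.L 0 [4,0,4,3,5])) (.N 8 (.L 5 [0,4,3,5,1]) (.N 9 (.L 2 [5,1,4,0,4]) (.L 6 [3,0,2,1,2,0])))))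

noncomputable def stree : ST := (.N 1 (.L 0 [] []) (.L 2 [] []))

noncomputable def C : Cert where
  data := tree
  lm := 15
  rb := 74
  fb := 10
  mask := 1023
  B := 16
  k := 6
  N := 8
  inv := fun x => bif Nat.beq x 0 then 1 else bif Nat.beq x 1 then 0 else bif Nat.beq x 2 then 3 else bif Nat.beq x 3 then 2 else bif Nat.beq x 4 then 5 else bif Nat.beq x 5 then 4 else x
  words := wtree
  subs := stree

def rels : List (List Nat) := [[0,0,0], [2,2,2], [4,4,4], [3,5,2,5,3,4], [0,3,0,2,1,2], [1,5,0,4,2,5]]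

def subw : List (List Nat) := [[0], [2]]

theorem c0 : Part C 0 8 5 := runChunk_sound C 5 (by decide +kernel : runChunk C 8 255 0x730202830201530202010213020001430000000000000001002300020113020133540263010302020202020202150205 14 16383 0xc49d30702580000000000 0 8 = 6)

theorem all : Part C 0 8 5 := c0

theorem part : Part C 0 C.N 5 := all

end Cfsg.Agent.OddHalf.D9.EEight.Id.CertL5
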