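import Mathlib
import Cfsg.Agent.KFacts.OddLift.Basic
import Cfsg.Agent.OddHalf.D9.EEight.Id.CertL1
import Cfsg.Agent.OddHalf.D9.EEight.Id.CertL2
import Cfsg.Agent.OddHalf.D9.EEight.Id.CertL3
import Cfsg.Agent.OddHalf.D9.EEight.Id.CertL4
import Cfsg.Agent.OddHalf.D9.EEight.Id.CertL5
import Cfsg.Agent.OddHalf.D9.EEight.Id.CertL6

/-!
# A group generated by seven letters with the 23 relators has order at most `4 * 174182400`, and is perfect
-/

set_option autoImplicit false

namespace Cfsg.Agent.OddHalf.D9.EEight.Id.Bound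

open Subgroup Cfsg.Agent.SporadicRecognition.CosetCert Cfsg.Agent.SporadicRecognition.CosetCertHyp
open Cfsg.Agent.KFacts.OddLift.Basic

variable {G : Type*} [Group G] {b : ℕ → G}

/-- the relators -/
def rels : List (List ℕ) := CertL1.rels

/-- the subgroup generated by the first `n` letters -/
def S (b : ℕ → G) (n : ℕ) : Subgroup G := closure {x | ∃ i < n, b i = x}

theorem ev_lt_congr {n m : ℕ} (hnm : n ≤ m) {r : List ℕ} (hr : ∀ y ∈ r, y < 2 * n) :
    ev (lt b n) r = ev (lt b m) r := by
  induction r with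
  | nil => rfl
  | cons x r ih =>
    rw [ev_cons, ev_cons, ih fun y hy => hr y (List.mem_cons_of_mem _ hy)]
    have hx := hr x List.mem_cons_self
    have hx' : x < 2 * m := by omega
    unfold lt
    rw [if_pos hx, if_pos hx']

/-- one level -/
theorem step (C : Cert) {n m k : ℕ} (hm : m ≤ n) (hk : C.k = 2 * n)
    (hiv : ∀ x, x < C.k → C.inv x = iv x) {R sub : List (List ℕ)}
    (hrel : ∀ r ∈ R, ev (lt b n) r = 1) (hsub : ∀ s ∈ sub, ∃ i < m, s = [2 * i])
    (hcheck : checkHyp C R sub = true) (hP : Part C 0 C.N k) [Finite (S b m)] :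
    Finite (S b n) ∧ Nat.card (S b n) ≤ k * Nat.card (S b m) := by
  have hyp : Hyp C (S b m) (lt b n) := by
    refine hyp_of_checks (S b m) (lt b n) C R sub ?_ ?_ hrel ?_ hcheck
    · rw [hk]; exact lt_top b n
    · intro x hx
      rw [hiv x hx, hk]
      rw [hk] at hx
      exact lt_hinv b n x hx
    · intro s hs
      obtain ⟨i, hi, rfl⟩ := hsub s hs
      rw [ev_cons, ev_nil, mul_one, lt_even b n (by omega) (by omega)]
      exact subset_closure ⟨i, hi, by congr 1; omega⟩
  have h := card_closure_le C (S b m) (lt b n) hyp hP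
  have h1 : closure (lt b n '' {x | x < C.k}) = S b n := by
    rw [hk]
    unfold S
    rw [← closure_lt b n]
    congr 1
  rwa [h1] at h

theorem S_one (h : b 0 ^ 3 = 1) : Finite (S b 1) ∧ Nat.card (S b 1) ≤ 3 := by
  have h1 : S b 1 = zpowers (b 0) := by
    unfold S
    rw [zpowers_eq_closure]
    congr 1
    ext x
    constructor
    · rintro ⟨i, hi, rfl⟩
      have : i = 0 := by omega
      rw [this]; rfl
    · intro hx
      exact ⟨0, by omega, (Set.mem_singleton_iff.1 hx).symm⟩
  rw [h1]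
  have hfo : IsOfFinOrder (b 0) := isOfFinOrder_iff_pow_eq_one.2 ⟨3, by norm_num, h⟩
  refine ⟨finite_zpowers.2 hfo, ?_⟩
  rw [Nat.card_zpowers]
  exact Nat.le_of_dvd (by norm_num) (orderOf_dvd_of_pow_eq_one h)

theorem sub_of_dec {m : ℕ} {sub : List (List ℕ)}
    (h : (sub.all fun s => (List.range m).any fun i => s == [2 * i]) = true) :
    ∀ s ∈ sub, ∃ i < m, s = [2 * i] := by
  intro s hs
  have h1 := List.all_eq_true.1 h s hs
  obtain ⟨i, hi, h2⟩ := List.any_eq_true.1 h1
  exact ⟨i, List.mem_range.1 hi, by simpa using h2⟩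

theorem rel_of_dec (hrel : ∀ r ∈ rels, ev (lt b 7) r = 1) {n : ℕ} (hn : n ≤ 7) {R : List (List ℕ)}
    (h : (R.all fun r => rels.elem r && r.all fun y => Nat.blt y (2 * n)) = true) :
    ∀ r ∈ R, ev (lt b n) r = 1 := by
  intro r hr
  have h1 := List.all_eq_true.1 h r hr
  rw [Bool.and_eq_true] at h1
  rw [ev_lt_congr hn fun y hy => Nat.le_of_ble_eq_true (List.all_eq_true.1 h1.2 y hy)]
  exact hrel r (List.elem_iff.1 h1.1)

theorem bound (hrel : ∀ r ∈ rels, ev (lt b 7) r = 1) :
    Finite (S b 7) ∧ Nat.card (S b 7) ≤ 696729600 := by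
  have h3 : b 0 ^ 3 = 1 := by
    have h := hrel [0, 0, 0] (by decide)
    rw [ev_cons, ev_cons, ev_cons, ev_nil, mul_one, lt_even b 7 (by omega) (by omega)] at h
    rw [← h, pow_three]
  obtain ⟨f1, c1⟩ := S_one h3
  obtain ⟨f2, c2⟩ := step (b := b) (R := CertL6.rels) (sub := CertL6.subw) CertL6.C (n := 2) (m := 1) (by omega) rfl
    (by intro x hx; change x < 4 at hx; interval_cases x <;> rfl)
    (rel_of_dec hrel (by omega) (by decide +kernel)) (sub_of_dec (by decide +kernel))
    (by decide +kernel) CertL6.part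
  obtain ⟨f3, c3⟩ := step (b := b) (R := CertL5.rels) (sub := CertL5.subw) CertL5.C (n := 3) (m := 2) (by omega) rfl
    (by intro x hx; change x < 6 at hx; interval_cases x <;> rfl)
    (rel_of_dec hrel (by omega) (by decide +kernel)) (sub_of_dec (by decide +kernel))
    (by decide +kernel) CertL5.part
  obtain ⟨f4, c4⟩ := step (b := b) (R := CertL4.rels) (sub := CertL4.subw) CertL4.C (n := 4) (m := 3) (by omega) rfl
    (by intro x hx; change x < 8 at hx; interval_cases x <;> rfl)
    (rel_of_dec hrel (by omega) (by decide +kernel)) (sub_of_dec (by decide +kernel))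
    (by decide +kernel) CertL4.part
  obtain ⟨f5, c5⟩ := step (b := b) (R := CertL3.rels) (sub := CertL3.subw) CertL3.C (n := 5) (m := 4) (by omega) rfl
    (by intro x hx; change x < 10 at hx; interval_cases x <;> rfl)
    (rel_of_dec hrel (by omega) (by decide +kernel)) (sub_of_dec (by decide +kernel))
    (by decide +kernel) CertL3.part
  obtain ⟨f6, c6⟩ := step (b := b) (R := CertL2.rels) (sub := CertL2.subw) CertL2.C (n := 6) (m := 5) (by omega) rfl
    (by intro x hx; change x < 12 at hx; interval_cases x <;> rfl)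
    (rel_of_dec hrel (by omega) (by decide +kernel)) (sub_of_dec (by decide +kernel))
    (by decide +kernel) CertL2.part
  obtain ⟨f7, c7⟩ := step (b := b) (R := CertL1.rels) (sub := CertL1.subw) CertL1.C (n := 7) (m := 6) (by omega) rfl
    (by intro x hx; change x < 14 at hx; interval_cases x <;> rfl)
    (rel_of_dec hrel (by omega) (by decide +kernel)) (sub_of_dec (by decide +kernel))
    (by decide +kernel) CertL1.part
  refine ⟨f7, ?_⟩
  calc Nat.card (S b 7) ≤ 240 * Nat.card (S b 6) := c7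
    _ ≤ 240 * (576 * Nat.card (S b 5)) := Nat.mul_le_mul_left _ c6
    _ ≤ 240 * (576 * (7 * Nat.card (S b 4))) := Nat.mul_le_mul_left _ (Nat.mul_le_mul_left _ c5)
    _ ≤ 240 * (576 * (7 * (6 * Nat.card (S b 3)))) :=
      Nat.mul_le_mul_left _ (Nat.mul_le_mul_left _ (Nat.mul_le_mul_left _ c4))
    _ ≤ 696729600 := by
      have h1 : Nat.card (S b 2) ≤ 8 * 3 := c2.trans (Nat.mul_le_mul_left _ c1)
      omega

end Cfsg.Agent.OddHalf.D9.EEight.Id.Bound
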