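import Mathlib
import Cfsg.Agent.OddHalf.D9.EEight.Id.HomData

/-!
# The tables of the three families are correct
-/

set_option autoImplicit false
set_option maxRecDepth 100000
set_option Elab.async false

namespace Cfsg.Agent.OddHalf.D9.EEight.Id.HomChk

open Matrix Cfsg.Agent.OddHalf.D9.EEight Cfsg.Agent.OddHalf.D9.EEight.Id.HomData

/-- coefficient of a root -/
def cf (i k : ℕ) : ℤ :=
  if i < 120 then ((RT / 100000000 ^ i / 10 ^ (7 - k) % 10 : ℕ) : ℤ)
  else -((RT / 100000000 ^ (i - 120) / 10 ^ (7 - k) % 10 : ℕ) : ℤ)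

/-- root number `i` -/
def rt (i : ℕ) : Lat := fun k => cf i k

/-- table lookup -/
def look (T i : ℕ) : ℕ := T / 256 ^ i % 256

/-- check of the table of a matrix -/
def chkM (M : Matrix (Fin 8) (Fin 8) ℤ) (T i : ℕ) : Bool :=
  Nat.blt (look T i) 240 && (List.finRange 8).all fun k =>
    decide (M k 0 * cf i 0 + M k 1 * cf i 1 + M k 2 * cf i 2 + M k 3 * cf i 3 + M k 4 * cf i 4 +
      M k 5 * cf i 5 + M k 6 * cf i 6 + M k 7 * cf i 7 = cf (look T i) k)

theorem mulVec_rt {M : Matrix (Fin 8) (Fin 8) ℤ} {T i : ℕ} (h : chkM M T i = true) :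
    look T i < 240 ∧ M *ᵥ rt i = rt (look T i) := by
  unfold chkM at h
  rw [Bool.and_eq_true] at h
  refine ⟨Nat.le_of_ble_eq_true h.1, ?_⟩
  funext k
  have h1 := List.all_eq_true.1 h.2 k (List.mem_finRange k)
  rw [decide_eq_true_eq] at h1
  rw [mulVec, dotProduct, Fin.sum_univ_eight]
  exact h1

/-- check of a family -/
def chkF (M : ℕ → Matrix (Fin 8) (Fin 8) ℤ) (T : ℕ → ℕ) : Bool :=
  (List.range 7).all fun j => (List.range 240).all fun i => chkM (M j) (T (2 * j)) i &&
    Nat.blt (look (T (2 * j + 1)) i) 240 && Nat.beq (look (T (2 * j)) (look (T (2 * j + 1)) i)) i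

theorem chk1 : chkF M1 T1 = true := by decide +kernel
theorem chk2 : chkF M2 T2 = true := by decide +kernel
theorem chk3 : chkF M3 T3 = true := by decide +kernel

end Cfsg.Agent.OddHalf.D9.EEight.Id.HomChk
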