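import Mathlib
import Cfsg.Agent.OddHalf.D9.EEight.Model

/-!
# `W(E₈)` is generated by the simple reflections

`mem_closure : w ∈ closure (range s)` for every isometry `w` of the lattice.
-/

set_option autoImplicit false

namespace Cfsg.Agent.OddHalf.D9.EEight.Id.Gen

open Matrix Cfsg.Agent.OddHalf.D9.EEight

/-- The form, explicitly. -/
theorem form_expl (x y : Lat) : form x y =
    2 * (x 0 * y 0 + x 1 * y 1 + x 2 * y 2 + x 3 * y 3 + x 4 * y 4 + x 5 * y 5 + x 6 * y 6 + x 7 * y 7)
    - (x 0 * y 2 + x 2 * y 0) - (x 1 * y 3 + x 3 * y 1) - (x 2 * y 3 + x 3 * y 2)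
    - (x 3 * y 4 + x 4 * y 3) - (x 4 * y 5 + x 5 * y 4) - (x 5 * y 6 + x 6 * y 5)
    - (x 6 * y 7 + x 7 * y 6) := by
  unfold form
  simp only [dotProduct, mulVec, Fin.sum_univ_eight, GM, CartanMatrix.E₈]
  simp
  ring

/-- Half of the norm. -/
def q (x : Lat) : ℤ :=
  x 0 * x 0 + x 1 * x 1 + x 2 * x 2 + x 3 * x 3 + x 4 * x 4 + x 5 * x 5 + x 6 * x 6 + x 7 * x 7
    - x 0 * x 2 - x 1 * x 3 - x 2 * x 3 - x 3 * x 4 - x 4 * x 5 - x 5 * x 6 - x 6 * x 7

theorem form_self (x : Lat) : form x x = 2 * q x := by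
  rw [form_expl, q]; ring

theorem sos (x : Lat) : 60 * form x x = 30 * (2 * x 0 - x 2) ^ 2 + 30 * (2 * x 1 - x 3) ^ 2 +
    10 * (3 * x 2 - 2 * x 3) ^ 2 + 2 * (5 * x 3 - 6 * x 4) ^ 2 + 3 * (4 * x 4 - 5 * x 5) ^ 2 +
    5 * (3 * x 5 - 4 * x 6) ^ 2 + 10 * (2 * x 6 - 3 * x 7) ^ 2 + 30 * x 7 ^ 2 := by
  rw [form_expl]; ring

theorem form_nonneg (x : Lat) : 0 ≤ form x x := by
  have := sos x
  have h1 := sq_nonneg (2 * x 0 - x 2)
  have h2 := sq_nonneg (2 * x 1 - x 3)
  have h3 := sq_nonneg (3 * x 2 - 2 * x 3)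
  have h4 := sq_nonneg (5 * x 3 - 6 * x 4)
  have h5 := sq_nonneg (4 * x 4 - 5 * x 5)
  have h6 := sq_nonneg (3 * x 5 - 4 * x 6)
  have h7 := sq_nonneg (2 * x 6 - 3 * x 7)
  have h8 := sq_nonneg (x 7)
  omega

theorem eq_zero_of_form {x : Lat} (h : form x x ≤ 0) : x = 0 := by
  have := sos x
  have h1 := sq_nonneg (2 * x 0 - x 2)
  have h2 := sq_nonneg (2 * x 1 - x 3)
  have h3 := sq_nonneg (3 * x 2 - 2 * x 3)
  have h4 := sq_nonneg (5 * x 3 - 6 * x 4)
  have h5 := sq_nonneg (4 * x 4 - 5 * x 5)
  have h6 := sq_nonneg (3 * x 5 - 4 * x 6)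
  have h7 := sq_nonneg (2 * x 6 - 3 * x 7)
  have h8 := sq_nonneg (x 7)
  have e7 : x 7 = 0 := pow_eq_zero_iff (two_ne_zero) |>.1 (by omega : (x 7) ^ 2 = 0)
  have e6' : 2 * x 6 - 3 * x 7 = 0 := pow_eq_zero_iff (two_ne_zero) |>.1 (by omega : (2 * x 6 - 3 * x 7) ^ 2 = 0)
  have e5' : 3 * x 5 - 4 * x 6 = 0 := pow_eq_zero_iff (two_ne_zero) |>.1 (by omega : (3 * x 5 - 4 * x 6) ^ 2 = 0)
  have e4' : 4 * x 4 - 5 * x 5 = 0 := pow_eq_zero_iff (two_ne_zero) |>.1 (by omega : (4 * x 4 - 5 * x 5) ^ 2 = 0)
  have e3' : 5 * x 3 - 6 * x 4 = 0 := pow_eq_zero_iff (two_ne_zero) |>.1 (by omega : (5 * x 3 - 6 * x 4) ^ 2 = 0)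
  have e2' : 3 * x 2 - 2 * x 3 = 0 := pow_eq_zero_iff (two_ne_zero) |>.1 (by omega : (3 * x 2 - 2 * x 3) ^ 2 = 0)
  have e1' : 2 * x 1 - x 3 = 0 := pow_eq_zero_iff (two_ne_zero) |>.1 (by omega : (2 * x 1 - x 3) ^ 2 = 0)
  have e0' : 2 * x 0 - x 2 = 0 := pow_eq_zero_iff (two_ne_zero) |>.1 (by omega : (2 * x 0 - x 2) ^ 2 = 0)
  funext i
  show x i = 0
  fin_cases i <;> simp <;> omega

theorem two_le_form {x : Lat} (h : x ≠ 0) : 2 ≤ form x x := by
  by_contra hlt
  have h1 := form_nonneg x
  have h2 := form_self x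
  exact h (eq_zero_of_form (by omega))

/-- simple roots -/
def e (i : Fin 8) : Lat := Pi.single i 1

theorem isRoot_e (i : Fin 8) : IsRoot (e i) := by
  unfold IsRoot
  rw [form_expl]
  unfold e
  fin_cases i <;> decide

theorem form_e (x : Lat) (i : Fin 8) : form x (e i) = ∑ j, x j * GM j i := by
  unfold form e
  rw [mulVec_single_one]
  rfl

theorem form_e_e (i j : Fin 8) : form (e i) (e j) = GM i j := by
  rw [form_e, Finset.sum_eq_single i]
  · simp [e]
  · intro k _ hk
    simp [e, hk]
  · intro h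
    exact absurd (Finset.mem_univ _) h

/-- simple reflections -/
noncomputable def s (i : Fin 8) : W := refl (isRoot_e i)

theorem ap_s (i : Fin 8) (x : Lat) : ap (s i) x = x - form x (e i) • e i := ap_refl _ _

/-- positive coefficients -/
theorem root_sign {a : Lat} (ha : IsRoot a) : (∀ i, 0 ≤ a i) ∨ ∀ i, a i ≤ 0 := by
  set p : Lat := fun i => max (a i) 0 with hp
  set n : Lat := fun i => max (-a i) 0 with hn
  have hpn : a = p - n := by
    funext i
    show a i = max (a i) 0 - max (-a i) 0
    omega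
  have hp0 : ∀ i, 0 ≤ p i := fun i => le_max_right _ _
  have hn0 : ∀ i, 0 ≤ n i := fun i => le_max_right _ _
  have hd : ∀ i, p i * n i = 0 := by
    intro i
    show max (a i) 0 * max (-a i) 0 = 0
    rcases le_total (a i) 0 with h | h
    · rw [max_eq_right h, zero_mul]
    · rw [max_eq_right (by omega : -a i ≤ 0), mul_zero]
  have hm : ∀ i j, 0 ≤ p i * n j := fun i j => mul_nonneg (hp0 i) (hn0 j)
  have h1 : form p n ≤ 0 := by
    rw [form_expl, hd 0, hd 1, hd 2, hd 3, hd 4, hd 5, hd 6, hd 7]
    have := hm 0 2; have := hm 2 0; have := hm 1 3; have := hm 3 1; have := hm 2 3; have := hm 3 2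
    have := hm 3 4; have := hm 4 3; have := hm 4 5; have := hm 5 4; have := hm 5 6; have := hm 6 5
    have := hm 6 7; have := hm 7 6
    omega
  have h2 : form a a = form p p + form n n - 2 * form p n := by
    rw [hpn, form_sub_left, form_sub_right, form_sub_right, form_comm n p]; ring
  have h3 : form a a = 2 := ha
  by_cases hp' : p = 0
  · right
    intro i
    have : p i = 0 := congrFun hp' i
    have h4 : max (a i) 0 = 0 := this
    omega
  · by_cases hn' : n = 0
    · left
      intro i
      have : n i = 0 := congrFun hn' i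
      have h4 : max (-a i) 0 = 0 := this
      omega
    · have := two_le_form hp'
      have := two_le_form hn'
      omega

/-- the Weyl vector -/
def rho : Lat := ![46, 68, 91, 135, 110, 84, 57, 29]

theorem form_rho_e (i : Fin 8) : form rho (e i) = 1 := by
  rw [form_e]
  fin_cases i <;> decide

theorem form_rho (x : Lat) : form rho x = x 0 + x 1 + x 2 + x 3 + x 4 + x 5 + x 6 + x 7 := by
  rw [form_expl]
  simp [rho]
  ring

theorem form_expand (x y : Lat) : form x y = ∑ i, x i * form (e i) y := by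
  have h : x = ∑ i, x i • e i := by
    funext j
    rw [Finset.sum_apply]
    simp [e, Pi.single_apply]
  conv_lhs => rw [h]
  rw [Fin.sum_univ_eight, Fin.sum_univ_eight]
  simp only [form_add_left, form_smul_left]

theorem isRoot_ap {a : Lat} (ha : IsRoot a) (w : W) : IsRoot (ap w a) := by
  unfold IsRoot
  rw [form_ap]
  exact ha

/-- Nondegeneracy. -/
theorem eq_of_form {x y : Lat} (h : ∀ i, form x (e i) = form y (e i)) : x = y := by
  have h0 : form (x - y) (x - y) = 0 := by
    rw [form_comm, form_expand]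
    refine Finset.sum_eq_zero fun i _ => ?_
    rw [form_comm (e i), form_sub_left, h i, sub_self, mul_zero]
  exact sub_eq_zero.1 (eq_zero_of_form h0.le)

/-- An isometry that fixes `rho` is trivial. -/
theorem eq_one_of_rho {v : W} (hv : ap v rho = rho) : v = 1 := by
  -- `v` permutes the simple roots
  have h1 : ∀ i, ∃ j, ap v (e i) = e j := by
    intro i
    set a := ap v (e i) with ha
    have hr : IsRoot a := isRoot_ap (isRoot_e i) v
    have hs : form rho a = 1 := by
      rw [ha]
      nth_rewrite 1 [← hv]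
      rw [form_ap, form_rho_e]
    rw [form_rho] at hs
    have hpos : ∀ i, 0 ≤ a i := by
      rcases root_sign hr with h | h
      · exact h
      · exfalso
        have := h 0; have := h 1; have := h 2; have := h 3; have := h 4; have := h 5; have := h 6
        have := h 7
        omega
    have p0 := hpos 0; have p1 := hpos 1; have p2 := hpos 2; have p3 := hpos 3; have p4 := hpos 4
    have p5 := hpos 5; have p6 := hpos 6; have p7 := hpos 7
    have hex : ∃ j, a j = 1 := by
      by_contra hcon
      push Not at hcon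
      have := hcon 0; have := hcon 1; have := hcon 2; have := hcon 3; have := hcon 4
      have := hcon 5; have := hcon 6; have := hcon 7
      omega
    obtain ⟨j, hj⟩ := hex
    refine ⟨j, ?_⟩
    funext k
    show a k = e j k
    unfold e
    rw [Pi.single_apply]
    split
    · rename_i h; rw [h]; exact hj
    · rename_i h
      fin_cases j <;> fin_cases k <;> first | exact absurd rfl h | (simp at hj ⊢; omega)
  choose σ hσ using h1
  -- fundamental weights
  let om : Fin 8 → Lat := ![![4, 5, 7, 10, 8, 6, 4, 2], ![5, 8, 10, 15, 12, 9, 6, 3],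
    ![7, 10, 14, 20, 16, 12, 8, 4], ![10, 15, 20, 30, 24, 18, 12, 6], ![8, 12, 16, 24, 20, 15, 10, 5],
    ![6, 9, 12, 18, 15, 12, 8, 4], ![4, 6, 8, 12, 10, 8, 6, 3], ![2, 3, 4, 6, 5, 4, 3, 2]]
  have hom : ∀ i j, form (om i) (e j) = if j = i then 1 else 0 := by
    intro i j
    rw [form_e]
    fin_cases i <;> fin_cases j <;> decide
  have hinj : Function.Injective σ := by
    intro i j hij
    have : ap v (e i) = ap v (e j) := by rw [hσ, hσ, hij]
    have h2 : e i = e j := by
      have := congrArg (ap v⁻¹) this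
      rwa [ap_inv_ap, ap_inv_ap] at this
    by_contra hne
    have h3 := congrFun h2 i
    unfold e at h3
    rw [Pi.single_eq_same, Pi.single_eq_of_ne hne] at h3
    exact one_ne_zero h3
  have hsurj : Function.Surjective σ := Finite.surjective_of_injective hinj
  have h2 : ∀ i, ap v (om i) = om (σ i) := by
    intro i
    apply eq_of_form
    intro k
    obtain ⟨j, rfl⟩ := hsurj k
    rw [← hσ, form_ap, hσ, hom, hom]
    simp only [hinj.eq_iff]
  have h3 : ∀ i, form (om (σ i)) (om (σ i)) = form (om i) (om i) := by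
    intro i
    rw [← h2, form_ap]
  have h4 : ∀ i j, form (om j) (om j) = form (om i) (om i) → j = i := by
    intro i j
    rw [form_expl, form_expl]
    fin_cases i <;> fin_cases j <;> first | exact fun _ => rfl | (intro h; exfalso; revert h; decide)
  have h5 : ∀ i, ap v (e i) = e i := fun i => by rw [hσ, h4 i (σ i) (h3 i)]
  apply ext_ap
  intro x
  rw [ap_one]
  have h : x = ∑ i, x i • e i := by
    funext j
    rw [Finset.sum_apply]
    simp [e, Pi.single_apply]
  rw [h, Fin.sum_univ_eight]
  simp only [ap_add, ap_smul, h5]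

/-- **The simple reflections generate.** -/
theorem mem_closure (w : W) : w ∈ Subgroup.closure (Set.range s) := by
  set S := Subgroup.closure (Set.range s) with hS
  -- a maximum
  have hmax : ∃ u ∈ S, ∀ v ∈ S, form (ap (v * w) rho) rho ≤ form (ap (u * w) rho) rho := by
    let P : ℤ → Prop := fun n => ∃ u ∈ S, form (ap (u * w) rho) rho = n
    have hb : ∃ b : ℤ, ∀ n, P n → n ≤ b := by
      refine ⟨form rho rho, ?_⟩
      rintro n ⟨u, _, rfl⟩
      have h1 := form_nonneg (ap (u * w) rho - rho)
      rw [form_sub_left, form_sub_right, form_sub_right, form_ap, form_comm rho (ap (u * w) rho)] at h1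
      linarith
    obtain ⟨m, ⟨u, hu, hm⟩, hle⟩ := Int.exists_greatest_of_bdd hb ⟨_, 1, S.one_mem, rfl⟩
    refine ⟨u, hu, fun v hv => ?_⟩
    rw [hm]
    exact hle _ ⟨v, hv, rfl⟩
  obtain ⟨u, hu, hle⟩ := hmax
  set v := u * w with hv
  set μ := ap v rho with hμ
  have hdom : ∀ i, 0 ≤ form μ (e i) := by
    intro i
    by_contra hneg
    push Not at hneg
    have h1 := hle (s i * u) (S.mul_mem (Subgroup.subset_closure ⟨i, rfl⟩) hu)
    rw [mul_assoc, ap_mul, ← hv, ← hμ, ap_s, form_sub_left, form_smul_left, form_comm (e i), form_rho_e,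
      mul_one] at h1
    linarith
  have hdom1 : ∀ i, 1 ≤ form μ (e i) := by
    intro i
    have h1 : form μ (e i) = form rho (ap v⁻¹ (e i)) := by
      rw [← form_ap v rho, ap_ap_inv]
    have hr : IsRoot (ap v⁻¹ (e i)) := isRoot_ap (isRoot_e i) _
    have h0 : form μ (e i) ≠ 0 := by
      rw [h1, form_rho]
      intro h
      have h2 : ap v⁻¹ (e i) = 0 := by
        generalize ap v⁻¹ (e i) = a at h hr
        have hz : ∀ i, a i = 0 := by
          rcases root_sign hr with hs | hs
          · have := hs 0; have := hs 1; have := hs 2; have := hs 3; have := hs 4; have := hs 5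
            have := hs 6; have := hs 7
            intro i
            fin_cases i <;> simp <;> omega
          · have := hs 0; have := hs 1; have := hs 2; have := hs 3; have := hs 4; have := hs 5
            have := hs 6; have := hs 7
            intro i
            fin_cases i <;> simp <;> omega
        funext i
        exact hz i
      unfold IsRoot at hr
      rw [h2, form_expl] at hr
      simp at hr
    have := hdom i
    omega
  have hν : μ = rho := by
    set ν := μ - rho with hν
    have h1 : form μ μ = form rho rho := form_ap v rho rho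
    have h2 : μ = rho + ν := by rw [hν]; abel
    have h3 : 0 ≤ form rho ν := by
      rw [form_expand, Fin.sum_univ_eight]
      have h4 : ∀ i, 0 ≤ form (e i) ν := by
        intro i
        rw [form_comm, hν, form_sub_left, form_rho_e]
        have := hdom1 i
        omega
      have := h4 0; have := h4 1; have := h4 2; have := h4 3; have := h4 4; have := h4 5
      have := h4 6; have := h4 7
      simp only [rho]
      simp
      positivity
    have h4 : form ν ν ≤ 0 := by
      rw [h2, form_add_left, form_add_right, form_add_right, form_comm ν rho] at h1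
      linarith
    have h5 := eq_zero_of_form h4
    rw [h2, h5, add_zero]
  have h6 : v = 1 := eq_one_of_rho hν
  have h7 : w = u⁻¹ := by
    rw [eq_inv_iff_mul_eq_one, ← mul_eq_one_iff_eq_inv.2 (eq_inv_of_mul_eq_one_left h6) ]
    exact mul_eq_one_comm.1 (hv ▸ h6) |>.trans (h6 ▸ rfl)
  rw [h7]
  exact S.inv_mem hu

end Cfsg.Agent.OddHalf.D9.EEight.Id.Gen
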