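import Mathlib
import Cfsg.Agent.OddHalf.D9.EEight.Id.Gen

/-!
# Reflections have determinant `-1`; `K₀` is generated by seven rotations of order 3
-/

set_option autoImplicit false

namespace Cfsg.Agent.OddHalf.D9.EEight.Id.Gen

open Matrix Cfsg.Agent.OddHalf.D9.EEight

theorem vec_single (a b : Lat) (i : Fin 8) :
    (1 - vecMulVec a b : Matrix (Fin 8) (Fin 8) ℤ) *ᵥ (Pi.single i 1) = Pi.single i 1 - b i • a := by
  rw [sub_mulVec, one_mulVec]
  congr 1
  rw [mulVec_single_one]
  funext j
  rw [col_apply, vecMulVec_apply, Pi.smul_apply, smul_eq_mul, mul_comm]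

theorem form_single (a : Lat) (i : Fin 8) : form (Pi.single i 1) a = (GM *ᵥ a) i := by
  rw [form_eq]
  exact single_one_dotProduct i (GM *ᵥ a)

theorem coe_refl {a : Lat} (ha : IsRoot a) :
    ((refl ha : (Matrix (Fin 8) (Fin 8) ℤ)ˣ) : Matrix (Fin 8) (Fin 8) ℤ) =
      1 - vecMulVec a (GM *ᵥ a) := by
  have h2 := form_single a
  generalize GM *ᵥ a = b at h2 ⊢
  apply Matrix.ext_of_mulVec_single
  intro i
  have h1 : ((refl ha : (Matrix (Fin 8) (Fin 8) ℤ)ˣ) : Matrix (Fin 8) (Fin 8) ℤ) *ᵥ Pi.single i 1 =
      ap (refl ha) (Pi.single i 1) := rfl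
  rw [h1]
  rw [ap_refl]
  rw [h2]
  rw [vec_single]

theorem coe_det (w : W) : ((det w : ℤˣ) : ℤ) =
    Matrix.det ((w : (Matrix (Fin 8) (Fin 8) ℤ)ˣ) : Matrix (Fin 8) (Fin 8) ℤ) := by
  unfold det
  rw [MonoidHom.comp_apply, Units.coe_map, Matrix.coe_detMonoidHom, Subgroup.coe_subtype]

theorem det_aux (a b : Lat) (h : a ⬝ᵥ b = 2) :
    Matrix.det (1 - vecMulVec a b : Matrix (Fin 8) (Fin 8) ℤ) = -1 := by
  have h1 : (1 : Matrix (Fin 8) (Fin 8) ℤ) - vecMulVec a b =
      1 + replicateCol Unit (-a) * replicateRow Unit b := by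
    rw [← vecMulVec_eq Unit, neg_vecMulVec, sub_eq_add_neg]
  rw [h1, det_one_add_replicateCol_mul_replicateRow, dotProduct_comm, neg_dotProduct, h]
  norm_num

theorem det_refl {a : Lat} (ha : IsRoot a) : det (refl ha) = -1 := by
  rw [Units.ext_iff, coe_det, coe_refl, det_aux a _ ha, Units.val_neg, Units.val_one]

theorem det_s (i : Fin 8) : det (s i) = -1 := det_refl _

theorem s_mul_s (i : Fin 8) : s i * s i = 1 := by
  apply ext_ap
  intro x
  rw [ap_mul, ap_one, ap_s, ap_s]
  exact reflFun_reflFun (isRoot_e i) x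

/-- The edges of the diagram. -/
def edg : Fin 7 → Fin 8 × Fin 8 := ![(0, 2), (2, 3), (3, 4), (4, 5), (5, 6), (3, 1), (6, 7)]

/-- The letters. -/
noncomputable def t (k : Fin 7) : W := s (edg k).1 * s (edg k).2

theorem det_t (k : Fin 7) : det (t k) = 1 := by
  unfold t
  rw [map_mul, det_s, det_s]
  decide

/-- All products of two simple reflections. -/
theorem s_mul_s_mem (i j : Fin 8) : s i * s j ∈ Subgroup.closure (Set.range t) := by
  set N := Subgroup.closure (Set.range t) with hN
  have hi : ∀ k, s (edg k).1 * s (edg k).2 ∈ N := fun k => Subgroup.subset_closure ⟨k, rfl⟩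
  have hsym : ∀ {i j : Fin 8}, s i * s j ∈ N → s j * s i ∈ N := by
    intro i j h
    have h1 := N.inv_mem h
    rw [_root_.mul_inv_rev, inv_eq_of_mul_eq_one_left (s_mul_s i), inv_eq_of_mul_eq_one_left (s_mul_s j)] at h1
    exact h1
  have htr : ∀ {i j k : Fin 8}, s i * s j ∈ N → s j * s k ∈ N → s i * s k ∈ N := by
    intro i j k h1 h2
    have h3 := N.mul_mem h1 h2
    rwa [mul_assoc, ← mul_assoc (s j), s_mul_s, one_mul] at h3
  have h0 : ∀ i, s i * s 3 ∈ N := by
    have a3 : s 3 * s 3 ∈ N := by rw [s_mul_s]; exact N.one_mem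
    have a2 : s 2 * s 3 ∈ N := hi 1
    have a0 : s 0 * s 3 ∈ N := htr (hi 0) a2
    have a1 : s 1 * s 3 ∈ N := hsym (hi 5)
    have a4 : s 4 * s 3 ∈ N := hsym (hi 2)
    have a5 : s 5 * s 3 ∈ N := htr (hsym (hi 3)) a4
    have a6 : s 6 * s 3 ∈ N := htr (hsym (hi 4)) a5
    have a7 : s 7 * s 3 ∈ N := htr (hsym (hi 6)) a6
    intro i
    fin_cases i
    · exact a0
    · exact a1
    · exact a2
    · exact a3
    · exact a4
    · exact a5
    · exact a6
    · exact a7
  exact htr (h0 i) (hsym (h0 j))

/-- **`K₀` is generated by the letters.** -/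
theorem closure_t : Subgroup.closure (Set.range t) = K₀ := by
  set N := Subgroup.closure (Set.range t) with hN
  apply le_antisymm
  · rw [hN, Subgroup.closure_le]
    rintro _ ⟨k, rfl⟩
    exact det_t k
  · have key : ∀ w : W, (det w = 1 → w ∈ N) ∧ (det w = -1 → s 0 * w ∈ N) := by
      intro w
      have hw := mem_closure w
      induction hw using Subgroup.closure_induction_left with
      | one =>
        refine ⟨fun _ => N.one_mem, fun h => ?_⟩
        rw [map_one] at h
        exact absurd h (by decide)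
      | mul_left x hx y _ ih =>
        obtain ⟨i, rfl⟩ := hx
        rw [map_mul, det_s]
        constructor
        · intro h
          have h1 : det y = -1 := by
            have := congrArg (fun u => -1 * u) h
            simpa using this
          have h2 := N.mul_mem (s_mul_s_mem i 0) (ih.2 h1)
          rwa [mul_assoc, ← mul_assoc (s 0), s_mul_s, one_mul] at h2
        · intro h
          have h1 : det y = 1 := by
            have := congrArg (fun u => -1 * u) h
            simpa using this
          rw [← mul_assoc]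
          exact N.mul_mem (s_mul_s_mem 0 i) (ih.1 h1)
      | inv_mul_cancel x hx y _ ih =>
        obtain ⟨i, rfl⟩ := hx
        rw [inv_eq_of_mul_eq_one_left (s_mul_s i), map_mul, det_s]
        constructor
        · intro h
          have h1 : det y = -1 := by
            have := congrArg (fun u => -1 * u) h
            simpa using this
          have h2 := N.mul_mem (s_mul_s_mem i 0) (ih.2 h1)
          rwa [mul_assoc, ← mul_assoc (s 0), s_mul_s, one_mul] at h2
        · intro h
          have h1 : det y = 1 := by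
            have := congrArg (fun u => -1 * u) h
            simpa using this
          rw [← mul_assoc]
          exact N.mul_mem (s_mul_s_mem 0 i) (ih.1 h1)
    intro w hw
    exact (key w).1 hw

end Cfsg.Agent.OddHalf.D9.EEight.Id.Gen
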