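import Mathlib
import Cfsg.Agent.OddHalf.D9.EEight.Id.GenK
import Cfsg.Agent.LieClassical.OrthForms
import Cfsg.Agent.LieClassical.OrthFinite
import Cfsg.Agent.LieClassical.OrthSimple
import Cfsg.Agent.ClassicalGeometry.OrthAut1

/-!
# `W(E₈)` modulo 2

`rho2 : W →* (V4 ≃ₗ V4)`, `red : Lat → V4` onto, `rho2 w (red x) = red (ap w x)`, `Q (red x) = q x`.
-/

set_option autoImplicit false

namespace Cfsg.Agent.OddHalf.D9.EEight.Id.ModTwo

open Matrix Cfsg.Agent.OddHalf.D9.EEight Cfsg.Agent.OddHalf.D9.EEight.Id.Gen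
open Cfsg.Agent.LieClassical.OrthCore Cfsg.Agent.LieClassical.OrthTrans
open Cfsg.Agent.LieClassical.OrthFinite QuadraticMap

/-- `𝔽₂⁸` in simple root coordinates -/
abbrev V8 : Type := Fin 8 → ZMod 2

/-- `𝔽₂⁸` in hyperbolic coordinates -/
abbrev V4 : Type := Fin 4 ⊕ Fin 4 → ZMod 2

/-- rows `GM g_i`, `GM f_i` -/
def A : Matrix (Fin 4 ⊕ Fin 4) (Fin 8) (ZMod 2) := fun i =>
  Sum.elim
    (![![0, 0, 0, 1, 0, 1, 1, 0], ![0, 1, 1, 0, 0, 0, 1, 0], ![1, 0, 1, 0, 0, 0, 0, 0],
      ![0, 1, 1, 1, 1, 1, 1, 1]])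
    (![![0, 0, 0, 0, 1, 0, 0, 0], ![0, 1, 1, 0, 1, 1, 0, 1], ![1, 0, 0, 0, 0, 0, 0, 0],
      ![0, 0, 0, 1, 1, 1, 1, 1]]) i

/-- columns `f_i`, `g_i` -/
def B : Matrix (Fin 8) (Fin 4 ⊕ Fin 4) (ZMod 2) := fun j i =>
  Sum.elim
    (![![0, 0, 0, 0, 0, 1, 0, 1], ![0, 0, 0, 1, 0, 0, 1, 0], ![0, 1, 1, 0, 0, 0, 0, 0],
      ![0, 1, 0, 0, 0, 1, 1, 0]])
    (![![0, 0, 0, 0, 1, 0, 0, 1], ![0, 0, 0, 1, 0, 1, 0, 0], ![1, 1, 1, 0, 0, 0, 0, 0],
      ![0, 1, 0, 1, 0, 0, 1, 1]]) i j

set_option maxRecDepth 4000 in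
theorem A_mul_B : A * B = 1 := by decide +kernel

set_option maxRecDepth 4000 in
theorem B_mul_A : B * A = 1 := by decide +kernel

/-- change of coordinates -/
noncomputable def T : V8 ≃ₗ[ZMod 2] V4 := Matrix.toLin'OfInv B_mul_A A_mul_B

theorem T_apply (v : V8) : T v = A *ᵥ v := rfl

/-- reduction modulo 2 -/
def mo (x : Lat) : V8 := fun i => (x i : ZMod 2)

/-- the quadratic form -/
abbrev Q : QuadraticForm (ZMod 2) V4 := Cfsg.Agent.LieClassical.OrthForms.plusForm 4 (ZMod 2)

theorem good : Good Q :=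
  good_of_finite (Cfsg.Agent.LieClassical.OrthForms.nondeg_plusForm 4 (ZMod 2))
    (by rw [Module.finrank_fintype_fun_eq_card]; simp)

/-- reduction -/
noncomputable def red (x : Lat) : V4 := T (mo x)

theorem mo_add (x y : Lat) : mo (x + y) = mo x + mo y := by
  funext i
  show ((x i + y i : ℤ) : ZMod 2) = x i + y i
  push_cast
  rfl

theorem red_add (x y : Lat) : red (x + y) = red x + red y := by
  unfold red
  rw [mo_add, map_add]

/-- the form on `V8` -/
def qb (v : V8) : ZMod 2 :=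
  v 0 * v 0 + v 1 * v 1 + v 2 * v 2 + v 3 * v 3 + v 4 * v 4 + v 5 * v 5 + v 6 * v 6 + v 7 * v 7
    + v 0 * v 2 + v 1 * v 3 + v 2 * v 3 + v 3 * v 4 + v 4 * v 5 + v 5 * v 6 + v 6 * v 7

theorem qb_mo (x : Lat) : qb (mo x) = (q x : ZMod 2) := by
  unfold qb mo q
  push_cast
  have h : ∀ a : ZMod 2, -a = a := by decide
  simp only [sub_eq_add_neg, h]

set_option maxRecDepth 10000 in
theorem quad_A : ∀ v : V8, (∑ i : Fin 4, (A *ᵥ v) (.inl i) * (A *ᵥ v) (.inr i)) = qb v := by
  decide +kernel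

theorem Q_T (v : V8) : Q (T v) = qb v := by
  rw [← quad_A v, T_apply]
  show (Cfsg.Agent.LieClassical.OrthForms.plusForm 4 (ZMod 2)) (A *ᵥ v) = _
  rw [Cfsg.Agent.LieClassical.OrthForms.coe_plusForm]
  rfl

theorem Q_red (x : Lat) : Q (red x) = (q x : ZMod 2) := by
  unfold red
  rw [Q_T, qb_mo]

/-- a section -/
def lift (v : V8) : Lat := fun i => (v i).val

theorem mo_lift (v : V8) : mo (lift v) = v := by
  funext i
  show (((v i).val : ℤ) : ZMod 2) = v i
  rw [Int.cast_natCast, ZMod.natCast_zmod_val]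

theorem red_surj (v : V4) : ∃ x, red x = v :=
  ⟨lift (T.symm v), by unfold red; rw [mo_lift, LinearEquiv.apply_symm_apply]⟩

theorem exists_of_red {x y : Lat} (h : red x = red y) : ∃ u : Lat, x = y + (2 : ℤ) • u := by
  have h1 : mo x = mo y := T.injective h
  have h2 : ∀ i, ∃ c : ℤ, x i = y i + 2 * c := by
    intro i
    have h3 : ((x i : ℤ) : ZMod 2) = ((y i : ℤ) : ZMod 2) := congrFun h1 i
    rw [ZMod.intCast_eq_intCast_iff_dvd_sub] at h3
    obtain ⟨c, hc⟩ := h3
    refine ⟨-c, ?_⟩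
    push_cast at hc
    linarith
  choose u hu using h2
  refine ⟨u, ?_⟩
  funext i
  show x i = y i + 2 * u i
  exact hu i

/-- conjugation by a linear equivalence -/
def conjLE {V V' : Type*} [AddCommGroup V] [Module (ZMod 2) V] [AddCommGroup V'] [Module (ZMod 2) V']
    (T : V ≃ₗ[ZMod 2] V') : (V ≃ₗ[ZMod 2] V) →* (V' ≃ₗ[ZMod 2] V') where
  toFun g := (T.symm.trans g).trans T
  map_one' := by ext v; simp
  map_mul' g h := by ext v; simp

theorem conjLE_apply {V V' : Type*} [AddCommGroup V] [Module (ZMod 2) V] [AddCommGroup V']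
    [Module (ZMod 2) V'] (T : V ≃ₗ[ZMod 2] V') (g : V ≃ₗ[ZMod 2] V) (v : V) :
    conjLE T g (T v) = T (g v) := by
  show T (g (T.symm (T v))) = _
  rw [LinearEquiv.symm_apply_apply]

/-- reduction of matrices -/
noncomputable def rho0 : W →* (Matrix (Fin 8) (Fin 8) (ZMod 2))ˣ :=
  (Units.map ((Int.castRingHom (ZMod 2)).mapMatrix.toMonoidHom)).comp W.subtype

/-- the representation modulo 2 -/
noncomputable def rho2 : W →* (V4 ≃ₗ[ZMod 2] V4) :=
  (conjLE T).comp ((glEquiv (Fin 8) (ZMod 2)).toMonoidHom.comp rho0)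

theorem mo_ap (w : W) (x : Lat) :
    (glEquiv (Fin 8) (ZMod 2) (rho0 w)) (mo x) = mo (ap w x) := by
  rw [glEquiv_apply]
  funext i
  show (∑ j, ((((w : (Matrix (Fin 8) (Fin 8) ℤ)ˣ) : Matrix (Fin 8) (Fin 8) ℤ) i j : ℤ) : ZMod 2) *
    ((x j : ℤ) : ZMod 2)) = ((∑ j, ((w : (Matrix (Fin 8) (Fin 8) ℤ)ˣ) : Matrix (Fin 8) (Fin 8) ℤ) i j * x j : ℤ) : ZMod 2)
  push_cast
  rfl

theorem rho2_red (w : W) (x : Lat) : rho2 w (red x) = red (ap w x) := by
  show conjLE T (glEquiv (Fin 8) (ZMod 2) (rho0 w)) (T (mo x)) = T (mo (ap w x))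
  rw [conjLE_apply, mo_ap]

theorem q_ap (w : W) (x : Lat) : q (ap w x) = q x := by
  have h := form_ap w x x
  rw [form_self, form_self] at h
  omega

theorem rho2_mem (w : W) : rho2 w ∈ O Q := by
  rw [mem_O]
  intro v
  obtain ⟨x, rfl⟩ := red_surj v
  rw [rho2_red, Q_red, Q_red, q_ap]

theorem q_add (x y : Lat) : q (x + y) = q x + q y + form x y := by
  have h1 := form_self (x + y)
  have h2 := form_self x
  have h3 := form_self y
  rw [form_add_left, form_add_right, form_add_right, form_comm y x] at h1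
  omega

theorem polar_red (x y : Lat) : polar Q (red x) (red y) = (form x y : ZMod 2) := by
  unfold polar
  rw [← red_add, Q_red, Q_red, Q_red, q_add]
  push_cast
  ring

theorem q_root {a : Lat} (ha : IsRoot a) : q a = 1 := by
  have h : form a a = 2 := ha
  rw [form_self] at h
  omega

theorem Q_root {a : Lat} (ha : IsRoot a) : Q (red a) ≠ 0 := by
  rw [Q_red, q_root ha]
  decide

theorem red_smul (n : ℤ) (x : Lat) : red (n • x) = (n : ZMod 2) • red x := by
  unfold red
  rw [← map_smul]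
  congr 1
  funext i
  show ((n * x i : ℤ) : ZMod 2) = (n : ZMod 2) * (x i : ZMod 2)
  push_cast
  rfl

theorem red_sub (x y : Lat) : red (x - y) = red x - red y := by
  unfold red
  rw [← map_sub]
  congr 1
  funext i
  show ((x i - y i : ℤ) : ZMod 2) = x i - y i
  push_cast
  rfl

theorem rho2_refl {a : Lat} (ha : IsRoot a) :
    rho2 (refl ha) = Cfsg.Agent.LieClassical.OrthCore.refl Q (red a) (Q_root ha) := by
  apply LinearEquiv.ext
  intro v
  obtain ⟨x, rfl⟩ := red_surj v
  rw [rho2_red, ap_refl, refl_apply, Q_red, q_root ha, polar_red, red_sub, red_smul, form_comm]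
  simp

/-! ### The kernel -/

theorem ap_root_of_rho2 {w : W} (hw : rho2 w = 1) {a : Lat} (ha : IsRoot a) :
    ap w a = a ∨ ap w a = -a := by
  have h1 : red (ap w a) = red a := by rw [← rho2_red, hw]; rfl
  obtain ⟨u, hu⟩ := exists_of_red h1
  have h2 : form a a = 2 := ha
  have h3 : form (ap w a) (ap w a) = 2 := by rw [form_ap, h2]
  have h4 : form (ap w a) (ap w a) = form a a + 4 * form a u + 4 * form u u := by
    rw [hu, form_add_left, form_add_right, form_add_right, form_smul_left, form_smul_left,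
      form_smul_right, form_smul_right, form_comm u a]; ring
  have h5 : form u u = 2 * q u := form_self u
  have h6 : 0 ≤ form u u := form_nonneg u
  have h7 : 0 ≤ form (ap w a + a) (ap w a + a) := form_nonneg _
  have h8 : form (ap w a + a) (ap w a + a) = 4 + 2 * form (ap w a) a := by
    rw [form_add_left, form_add_right, form_add_right, h3, h2, form_comm a]; ring
  have h9 : form (ap w a) a = 2 + 2 * form a u := by
    rw [hu, form_add_left, form_smul_left, h2, form_comm u a]
  have h10 : form u u = 0 ∨ form u u = 2 := by omega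
  rcases h10 with h | h
  · left
    rw [hu, eq_zero_of_form h.le, smul_zero, add_zero]
  · right
    have h11 : form (ap w a + a) (ap w a + a) ≤ 0 := by omega
    exact eq_neg_of_add_eq_zero_left (eq_zero_of_form h11)

theorem eq_of_rho2 {w : W} (hw : rho2 w = 1) : w = 1 ∨ w = neg := by
  have h := fun i => ap_root_of_rho2 hw (isRoot_e i)
  have hadj : ∀ k : Fin 7, (ap w (e (edg k).1) = e (edg k).1 ↔ ap w (e (edg k).2) = e (edg k).2) := by
    intro k
    have h1 : form (e (edg k).1) (e (edg k).2) = -1 := by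
      rw [form_e_e]
      fin_cases k <;> decide
    have h2 := form_ap w (e (edg k).1) (e (edg k).2)
    have hne : ∀ i, e i ≠ -e i := by
      intro i hi
      have h3 := congrFun hi i
      unfold e at h3
      rw [Pi.neg_apply, Pi.single_eq_same] at h3
      omega
    rcases h (edg k).1 with h3 | h3 <;> rcases h (edg k).2 with h4 | h4
    · exact ⟨fun _ => h4, fun _ => h3⟩
    · rw [h3, h4, form_neg_right, h1] at h2; omega
    · rw [h3, h4, form_neg_left, h1] at h2; omega
    · constructor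
      · intro h5; rw [h3] at h5; exact absurd h5.symm (hne _)
      · intro h5; rw [h4] at h5; exact absurd h5.symm (hne _)
  have hall : ∀ i, (ap w (e i) = e i ↔ ap w (e 3) = e 3) := by
    have a2 := hadj 1
    have a0 := (hadj 0).trans a2
    have a1 := (hadj 5).symm
    have a4 := (hadj 2).symm
    have a5 := (hadj 3).symm.trans a4
    have a6 := (hadj 4).symm.trans a5
    have a7 := (hadj 6).symm.trans a6
    intro i
    fin_cases i
    · exact a0
    · exact a1
    · exact a2
    · exact Iff.rfl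
    · exact a4
    · exact a5
    · exact a6
    · exact a7
  have hx : ∀ x : Lat, x = ∑ i, x i • e i := by
    intro x
    funext j
    rw [Finset.sum_apply]
    simp [e, Pi.single_apply]
  rcases h 3 with h3 | h3
  · left
    apply ext_ap
    intro x
    rw [ap_one, hx x, Fin.sum_univ_eight]
    simp only [ap_add, ap_smul, (hall _).2 h3]
  · right
    have hne : ¬ ap w (e 3) = e 3 := by
      intro h4
      rw [h3] at h4
      have h5 := congrFun h4 3
      unfold e at h5
      rw [Pi.neg_apply, Pi.single_eq_same] at h5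
      omega
    have h4 : ∀ i, ap w (e i) = - e i := fun i => (h i).resolve_left fun h5 => hne ((hall i).1 h5)
    apply ext_ap
    intro x
    rw [ap_neg_one, hx x, Fin.sum_univ_eight]
    simp only [ap_add, ap_smul, h4]
    module

theorem rho2_neg : rho2 neg = 1 := by
  apply LinearEquiv.ext
  intro v
  obtain ⟨x, rfl⟩ := red_surj v
  rw [rho2_red, ap_neg_one]
  have h : red (-x) = red ((-1 : ℤ) • x) := by rw [neg_smul, one_smul]
  rw [h, red_smul]
  have h2 : ((-1 : ℤ) : ZMod 2) = 1 := by decide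
  rw [h2, one_smul]
  rfl

end Cfsg.Agent.OddHalf.D9.EEight.Id.ModTwo
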