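import Mathlib
import Cfsg.Agent.OddHalf.D9.EEight.Id.ModTwo
import Cfsg.Agent.LargeExtra.Cards

/-!
# `rho2` maps `W` onto `O(Q)` and `K₀` onto `Ω(Q)`
-/

set_option autoImplicit false

namespace Cfsg.Agent.OddHalf.D9.EEight.Id.Onto

open Matrix Cfsg.Agent.OddHalf.D9.EEight Cfsg.Agent.OddHalf.D9.EEight.Id.Gen
open Cfsg.Agent.OddHalf.D9.EEight.Id.ModTwo
open Cfsg.Agent.LieClassical.OrthCore Cfsg.Agent.LieClassical.OrthTrans
open Cfsg.Agent.LieClassical.OrthFinite Cfsg.Agent.LieClassical.OrthSimple QuadraticMap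

/-- the positive roots, decimal digits = coefficients -/
def rts : List ℕ :=
  [1, 10, 100, 1000, 10000, 100000, 1000000, 10000000, 11, 110, 1100, 11000, 110000, 1010000,
10100000, 111, 1110, 11100, 111000, 1011000, 1110000, 10110000, 1111, 11110, 111100, 1011100,
1111000, 10111000, 11110000, 11111, 111110, 1011110, 1111100, 1121000, 10111100, 11111000,
111111, 1011111, 1111110, 1121100, 10111110, 11111100, 11121000, 1111111, 1121110, 1122100,
10111111, 11111110, 11121100, 11221000, 1121111, 1122110, 11111111, 11121110, 11122100,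
11221100, 1122111, 1122210, 11121111, 11122110, 11221110, 11222100, 1122211, 11122111, 11122210,
11221111, 11222110, 11232100, 1122221, 11122211, 11222111, 11222210, 11232110, 12232100,
11122221, 11222211, 11232111, 11232210, 12232110, 11222221, 11232211, 11233210, 12232111,
12232210, 11232221, 11233211, 12232211, 12233210, 11233221, 12232221, 12233211, 12243210,
11233321, 12233221, 12243211, 12343210, 12233321, 12243221, 12343211, 22343210, 12243321,
12343221, 22343211, 12244321, 12343321, 22343221, 12344321, 22343321, 12354321, 22344321,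
13354321, 22354321, 22454321, 23354321, 23454321, 23464321, 23465321, 23465421, 23465431,
23465432]

/-- decoding -/
def dec (n : ℕ) : Lat := ![(n / 10000000 % 10 : ℕ), (n / 1000000 % 10 : ℕ), (n / 100000 % 10 : ℕ),
  (n / 10000 % 10 : ℕ), (n / 1000 % 10 : ℕ), (n / 100 % 10 : ℕ), (n / 10 % 10 : ℕ), (n % 10 : ℕ)]

set_option maxRecDepth 10000 in
theorem rts_root : ∀ n ∈ rts, q (dec n) = 1 := by decide +kernel

set_option maxRecDepth 10000 in
theorem rts_cover : ∀ v : V8, qb v = 1 → ∃ n ∈ rts, mo (dec n) = v := by decide +kernel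

theorem exists_root {v : V4} (hv : Q v ≠ 0) : ∃ a : Lat, IsRoot a ∧ red a = v := by
  have h1 : qb (T.symm v) = 1 := by
    rw [← Q_T, LinearEquiv.apply_symm_apply]
    revert hv
    generalize Q v = c
    revert c
    decide
  obtain ⟨n, hn, h2⟩ := rts_cover _ h1
  refine ⟨dec n, ?_, ?_⟩
  · unfold IsRoot
    rw [form_self, rts_root n hn]
    norm_num
  · unfold red
    rw [h2, LinearEquiv.apply_symm_apply]

/-- every reflection comes from a reflection of `W` -/
theorem refl_eq {v : V4} (hv : Q v ≠ 0) :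
    ∃ (a : Lat) (ha : IsRoot a), rho2 (EEight.refl ha) = LieClassical.OrthCore.refl Q v hv := by
  obtain ⟨a, ha, rfl⟩ := exists_root hv
  exact ⟨a, ha, rho2_refl ha⟩

theorem refl_mul_refl_mem {a b : Lat} (ha : IsRoot a) (hb : IsRoot b) :
    rho2 (EEight.refl ha * EEight.refl hb) ∈ E Q := by
  rw [map_mul, rho2_refl, rho2_refl]
  refine good.refl_mul_refl_mem (Q_root hb) (Q_root ha) ?_
  rw [Q_red, Q_red, q_root ha, q_root hb]

theorem rho2_mem_E {w : W} (hw : w ∈ K₀) : rho2 w ∈ E Q := by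
  rw [← closure_t] at hw
  have h : Subgroup.closure (Set.range t) ≤ (E Q).comap rho2 := by
    rw [Subgroup.closure_le]
    rintro _ ⟨k, rfl⟩
    exact refl_mul_refl_mem _ _
  exact h hw

theorem two_refl_ne : ∃ g ∈ Subgroup.closure (reflSet Q) ⊓ E Q, ¬ ∃ c : ZMod 2, ∀ v : V4, g v = c • v := by
  refine ⟨rho2 (EEight.refl (isRoot_e 0) * EEight.refl (isRoot_e 2)), ⟨?_, refl_mul_refl_mem _ _⟩, ?_⟩
  · rw [map_mul, rho2_refl, rho2_refl]
    exact Subgroup.mul_mem _ (Subgroup.subset_closure ⟨_, _, rfl⟩) (Subgroup.subset_closure ⟨_, _, rfl⟩)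
  · rintro ⟨c, hc⟩
    have h1 := hc (red (e 0))
    rw [rho2_red] at h1
    have h2 : red (ap (EEight.refl (isRoot_e 0) * EEight.refl (isRoot_e 2)) (e 0)) = red (e 2) := by
      rw [ap_mul, ap_refl, ap_refl, form_e_e]
      have e1 : (GM 0 2 : ℤ) = -1 := by decide
      rw [e1, form_sub_left, form_smul_left, form_e_e, form_e_e]
      have e2 : (GM 0 0 : ℤ) = 2 := by decide
      have e3 : (GM 2 0 : ℤ) = -1 := by decide
      rw [e2, e3]
      congr 1
      module
    rw [h2] at h1
    have h3 : polar Q (red (e 0)) (red (e 2)) = 0 := by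
      rw [h1, polar_smul_right, polar_red, form_e_e]
      have e2 : (GM 0 0 : ℤ) = 2 := by decide
      rw [e2]
      have : ((2 : ℤ) : ZMod 2) = 0 := by decide
      rw [this, smul_zero]
    rw [polar_red, form_e_e] at h3
    revert h3
    decide

theorem E_le_closure : E Q ≤ Subgroup.closure (reflSet Q) := by
  have hR : ∀ g ∈ O Q, ∀ n ∈ Subgroup.closure (reflSet Q), g * n * g⁻¹ ∈ Subgroup.closure (reflSet Q) := by
    intro g hg n hn
    induction hn using Subgroup.closure_induction with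
    | mem x hx =>
      obtain ⟨v, hv, rfl⟩ := hx
      have hv' : Q (g v) ≠ 0 := by rw [mem_O.1 hg]; exact hv
      rw [refl_conj hg hv hv']
      exact Subgroup.subset_closure ⟨_, hv', rfl⟩
    | one => simp
    | mul x y _ _ hx hy =>
      rw [show g * (x * y) * g⁻¹ = g * x * g⁻¹ * (g * y * g⁻¹) by group]
      exact Subgroup.mul_mem _ hx hy
    | inv x _ hx =>
      rw [show g * x⁻¹ * g⁻¹ = (g * x * g⁻¹)⁻¹ by group]
      exact Subgroup.inv_mem _ hx
  rcases good_normal_dichotomy (N := Subgroup.closure (reflSet Q) ⊓ E Q) good inf_le_right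
    (fun g hg n hn => ⟨hR g (E_le_O hg) n hn.1, Subgroup.mul_mem _ (Subgroup.mul_mem _ hg hn.2)
      (Subgroup.inv_mem _ hg)⟩) with h | h
  · obtain ⟨g, hg, h1⟩ := two_refl_ne
    exact absurd (h g hg) h1
  · rw [← h]
    exact inf_le_left

/-- **`rho2` maps `W` onto the group generated by the reflections.** -/
theorem closure_le_range : Subgroup.closure (reflSet Q) ≤ rho2.range := by
  rw [Subgroup.closure_le]
  rintro _ ⟨v, hv, rfl⟩
  obtain ⟨a, ha, h⟩ := refl_eq hv
  exact ⟨_, h⟩

/-- **`rho2` maps `K₀` onto `E Q`.** -/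
theorem map_K : K₀.map rho2 = E Q := by
  have hle : K₀.map rho2 ≤ E Q := by
    rintro _ ⟨w, hw, rfl⟩
    exact rho2_mem_E hw
  have hE : ∀ g ∈ E Q, ∀ n ∈ K₀.map rho2, g * n * g⁻¹ ∈ K₀.map rho2 := by
    rintro g hg _ ⟨w, hw, rfl⟩
    obtain ⟨u, rfl⟩ := closure_le_range (E_le_closure hg)
    refine ⟨u * w * u⁻¹, ?_, by rw [map_mul, map_mul, map_inv]⟩
    exact (inferInstance : (MonoidHom.ker det).Normal).conj_mem w hw _
  rcases good_normal_dichotomy good hle hE with h | h
  · exfalso
    have h0 : rho2 (EEight.refl (isRoot_e 0) * EEight.refl (isRoot_e 2)) ∈ K₀.map rho2 :=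
      ⟨_, by rw [SetLike.mem_coe, mem_K₀, map_mul, det_refl, det_refl]; decide, rfl⟩
    obtain ⟨c, hc⟩ := h _ h0
    have h1 := hc (red (e 0))
    rw [rho2_red] at h1
    have h2 : red (ap (EEight.refl (isRoot_e 0) * EEight.refl (isRoot_e 2)) (e 0)) = red (e 2) := by
      rw [ap_mul, ap_refl, ap_refl, form_e_e]
      have e1 : (GM 0 2 : ℤ) = -1 := by decide
      rw [e1, form_sub_left, form_smul_left, form_e_e, form_e_e]
      have e2 : (GM 0 0 : ℤ) = 2 := by decide
      have e3 : (GM 2 0 : ℤ) = -1 := by decide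
      rw [e2, e3]
      congr 1
      module
    rw [h2] at h1
    have h3 : polar Q (red (e 0)) (red (e 2)) = 0 := by
      rw [h1, polar_smul_right, polar_red, form_e_e]
      have e2 : (GM 0 0 : ℤ) = 2 := by decide
      rw [e2]
      have : ((2 : ℤ) : ZMod 2) = 0 := by decide
      rw [this, smul_zero]
    rw [polar_red, form_e_e] at h3
    revert h3
    decide
  · exact h

/-- the centre of `E Q` is trivial -/
theorem center_E : Subgroup.center ↥(E Q) = ⊥ := by
  rw [eq_bot_iff]
  intro z hz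
  obtain ⟨c, hc⟩ := ClassicalGeometry.OrthAut1.center_scalar good hz
  rw [Subgroup.mem_bot]
  apply Subtype.ext
  apply LinearEquiv.ext
  intro v
  rw [hc]
  have h1 : c = 1 := by
    have h2 : c = 0 ∨ c = 1 := (by decide : ∀ c : ZMod 2, c = 0 ∨ c = 1) c
    rcases h2 with h2 | h2
    · exfalso
      have h3 := hc (red (e 0))
      rw [h2, zero_smul] at h3
      have h4 : red (e 0) = 0 := (LinearEquiv.map_eq_zero_iff _).1 h3
      have h5 := Q_root (isRoot_e 0)
      rw [h4, QuadraticMap.map_zero] at h5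
      exact h5 rfl
    · exact h2
  rw [h1, one_smul]
  rfl

/-- `K₀ → E Q` -/
noncomputable def toE : K₀ →* E Q where
  toFun w := ⟨rho2 w, rho2_mem_E w.2⟩
  map_one' := Subtype.ext (map_one rho2)
  map_mul' a b := Subtype.ext (map_mul rho2 (a : W) b)

theorem coe_toE (w : K₀) : (toE w : V4 ≃ₗ[ZMod 2] V4) = rho2 w := rfl

theorem toE_surj : Function.Surjective toE := by
  intro g
  have h : (g : V4 ≃ₗ[ZMod 2] V4) ∈ K₀.map rho2 := by rw [map_K]; exact g.2
  obtain ⟨w, hw, h1⟩ := h
  exact ⟨⟨w, hw⟩, Subtype.ext h1⟩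

theorem det_neg' : det neg = 1 := by
  rw [Units.ext_iff, coe_det]
  have h : ((neg : (Matrix (Fin 8) (Fin 8) ℤ)ˣ) : Matrix (Fin 8) (Fin 8) ℤ) = -1 := rfl
  rw [h, Matrix.det_neg, Matrix.det_one, Fintype.card_fin]
  norm_num

/-- `-1` as an element of `K₀` -/
def negK : K₀ := ⟨neg, det_neg'⟩

theorem neg_ne_one : neg ≠ 1 := by
  intro h
  have h1 := congrArg (fun w => ap w (e 0) 0) h
  simp only [ap_neg_one, ap_one] at h1
  unfold e at h1
  rw [Pi.neg_apply, Pi.single_eq_same] at h1
  omega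

theorem negK_ne_one : negK ≠ 1 := fun h => neg_ne_one (congrArg Subtype.val h)

theorem neg_mul_neg : neg * neg = 1 := by
  apply ext_ap
  intro x
  rw [ap_mul, ap_neg_one, ap_neg_one, neg_neg, ap_one]

theorem negK_mul_self : negK * negK = 1 := Subtype.ext neg_mul_neg

theorem neg_comm (w : W) : neg * w = w * neg := by
  apply ext_ap
  intro x
  rw [ap_mul, ap_mul, ap_neg_one, ap_neg_one, ap_neg]

theorem negK_comm (w : K₀) : negK * w = w * negK := Subtype.ext (neg_comm w)

/-- the covering map onto `P Q` -/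
noncomputable def pi1 : K₀ →* ClassicalGeometry.OrthAut1.P Q :=
  (QuotientGroup.mk' (Subgroup.center ↥(E Q))).comp toE

theorem pi1_surj : Function.Surjective pi1 :=
  (QuotientGroup.mk'_surjective _).comp toE_surj

theorem pi1_apply (w : K₀) : pi1 w = QuotientGroup.mk' (Subgroup.center ↥(E Q)) (toE w) := rfl

theorem mk_eq_one {g : ↥(E Q)} : QuotientGroup.mk' (Subgroup.center ↥(E Q)) g = 1 ↔ g = 1 := by
  have h := QuotientGroup.ker_mk' (Subgroup.center ↥(E Q))
  rw [← MonoidHom.mem_ker, h, center_E, Subgroup.mem_bot]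

theorem pi1_eq_one {w : K₀} : pi1 w = 1 ↔ w = 1 ∨ w = negK := by
  rw [pi1_apply, mk_eq_one]
  constructor
  · intro h1
    have h2 : rho2 (w : W) = 1 := by
      rw [← coe_toE, h1]
      exact Subgroup.coe_one _
    rcases eq_of_rho2 h2 with h3 | h3
    · exact Or.inl (Subtype.ext h3)
    · exact Or.inr (Subtype.ext h3)
  · rintro (rfl | rfl)
    · exact map_one _
    · exact Subtype.ext rho2_neg

theorem card_omega_Q : Nat.card (Cfsg.Omega (ZMod 2) (⇑Q)) = 174182400 := by
  have hQ : (⇑Q) = Cfsg.quadFormPlus 4 (ZMod 2) := LieClassical.OrthForms.coe_plusForm 4 (ZMod 2)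
  rw [hQ]
  exact LargeExtra.Cards.card_omega_plus_eight

theorem card_E : Nat.card (E Q) = 174182400 :=
  (Nat.card_congr ((omegaEquiv Q).trans (MulEquiv.subgroupCongr good.commutator_eq_E)).toEquiv).symm.trans
    card_omega_Q

theorem card_P : Nat.card (ClassicalGeometry.OrthAut1.P Q) = 174182400 := by
  have h3 := (Subgroup.center ↥(E Q)).card_mul_index
  have h4 : Nat.card (Subgroup.center ↥(E Q)) = 1 := by rw [center_E, Subgroup.card_bot]
  rw [h4, one_mul, card_E] at h3
  exact h3

theorem simple_P : IsSimpleGroup (ClassicalGeometry.OrthAut1.P Q) := good_isSimpleGroup good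

end Cfsg.Agent.OddHalf.D9.EEight.Id.Onto
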