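import Mathlib
import Cfsg.Agent.OddHalf.D9.EEight.Id.HomChk
import Cfsg.Agent.OddHalf.D9.EEight.Id.Bound
import Cfsg.Agent.OddHalf.D9.EEight.Id.Onto

/-!
# Three families of letters in `K₀` that satisfy the 23 relators
-/

set_option autoImplicit false
set_option maxRecDepth 100000
set_option Elab.async false

namespace Cfsg.Agent.OddHalf.D9.EEight.Id.Homs

open Matrix Cfsg.Agent.OddHalf.D9.EEight Cfsg.Agent.OddHalf.D9.EEight.Id.Gen
open Cfsg.Agent.OddHalf.D9.EEight.Id.HomData Cfsg.Agent.OddHalf.D9.EEight.Id.Onto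
open Cfsg.Agent.OddHalf.D9.EEight.Id.HomChk
open Cfsg.Agent.SporadicRecognition.CosetCert Cfsg.Agent.KFacts.OddLift.Basic

/-- an element of `W` from a matrix and its inverse -/
def mkW (M N : Matrix (Fin 8) (Fin 8) ℤ) (h : M * N = 1 ∧ N * M = 1 ∧ Mᵀ * GM * M = GM) : W :=
  ⟨⟨M, N, h.1, h.2.1⟩, h.2.2⟩

theorem ap_mkW {M N : Matrix (Fin 8) (Fin 8) ℤ} (h : M * N = 1 ∧ N * M = 1 ∧ Mᵀ * GM * M = GM)
    (x : Lat) : ap (mkW M N h) x = M *ᵥ x := rfl

theorem ok1 : ∀ i, i < 7 → M1 i * N1 i = 1 ∧ N1 i * M1 i = 1 ∧ (M1 i)ᵀ * GM * M1 i = GM := by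
  decide +kernel
theorem ok2 : ∀ i, i < 7 → M2 i * N2 i = 1 ∧ N2 i * M2 i = 1 ∧ (M2 i)ᵀ * GM * M2 i = GM := by
  decide +kernel
theorem ok3 : ∀ i, i < 7 → M3 i * N3 i = 1 ∧ N3 i * M3 i = 1 ∧ (M3 i)ᵀ * GM * M3 i = GM := by
  decide +kernel

/-- the words act on the roots through the tables -/
def run (T : ℕ → ℕ) : List ℕ → ℕ → ℕ
  | [], i => i
  | y :: r, i => look (T y) (run T r i)

theorem ap_ev {b : ℕ → W} {T : ℕ → ℕ}
    (hb : ∀ y < 14, ∀ i < 240, look (T y) i < 240 ∧ ap (lt b 7 y) (rt i) = rt (look (T y) i))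
    {r : List ℕ} (hr : ∀ y ∈ r, y < 14) {i : ℕ} (hi : i < 240) :
    run T r i < 240 ∧ ap (ev (lt b 7) r) (rt i) = rt (run T r i) := by
  induction r with
  | nil => exact ⟨hi, by rw [ev_nil, ap_one]; rfl⟩
  | cons y r ih =>
    obtain ⟨h1, h2⟩ := ih fun z hz => hr z (List.mem_cons_of_mem _ hz)
    obtain ⟨h3, h4⟩ := hb y (hr y List.mem_cons_self) _ h1
    exact ⟨h3, by rw [ev_cons, ap_mul, h2, h4]; rfl⟩

theorem table {b : ℕ → W} {M : ℕ → Matrix (Fin 8) (Fin 8) ℤ} {T : ℕ → ℕ} (h : chkF M T = true)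
    (hb : ∀ j < 7, ∀ x, ap (b j) x = M j *ᵥ x) :
    ∀ y < 14, ∀ i < 240, look (T y) i < 240 ∧ ap (lt b 7 y) (rt i) = rt (look (T y) i) := by
  intro y hy i hi
  have hj : y / 2 < 7 := by omega
  have key : ∀ i < 240, chkM (M (y / 2)) (T (2 * (y / 2))) i = true ∧
      look (T (2 * (y / 2) + 1)) i < 240 ∧
      look (T (2 * (y / 2))) (look (T (2 * (y / 2) + 1)) i) = i := by
    intro i hi
    unfold chkF at h
    have h1 := List.all_eq_true.1 (List.all_eq_true.1 h (y / 2) (List.mem_range.2 hj)) i (List.mem_range.2 hi)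
    rw [Bool.and_eq_true, Bool.and_eq_true] at h1
    exact ⟨h1.1.1, Nat.le_of_ble_eq_true h1.1.2, Nat.eq_of_beq_eq_true h1.2⟩
  rcases Nat.mod_two_eq_zero_or_one y with h2 | h2
  · have h3 : 2 * (y / 2) = y := by omega
    obtain ⟨h4, h5⟩ := mulVec_rt (key i hi).1
    rw [h3] at h4 h5
    rw [lt_even b 7 (by omega) h2, hb _ hj, h5]
    exact ⟨h4, rfl⟩
  · have h3 : 2 * (y / 2) + 1 = y := by omega
    obtain ⟨-, h4, h5⟩ := key i hi
    rw [h3] at h4 h5
    obtain ⟨-, h6⟩ := mulVec_rt (key _ h4).1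
    rw [h5] at h6
    rw [lt_odd b 7 (by omega) h2]
    refine ⟨h4, ?_⟩
    rw [← h6, ← hb _ hj, ap_inv_ap]

theorem e_eq_rt : ∀ j : Fin 8, e j = rt (7 - j) := by
  have h : ∀ j k : Fin 8, (if k = j then (1 : ℤ) else 0) = cf (7 - j) k := by decide +kernel
  intro j
  funext k
  unfold e
  rw [Pi.single_apply]
  exact h j k

theorem neg_e_eq_rt : ∀ j : Fin 8, -e j = rt (127 - j) := by
  have h : ∀ j k : Fin 8, -(if k = j then (1 : ℤ) else 0) = cf (127 - j) k := by decide +kernel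
  intro j
  funext k
  unfold e
  rw [Pi.neg_apply, Pi.single_apply]
  exact h j k

theorem ext_e {v w : W} (h : ∀ i, ap v (e i) = ap w (e i)) : v = w := by
  apply ext_ap
  intro x
  have hx : x = ∑ i, x i • e i := by
    funext j
    rw [Finset.sum_apply]
    simp [e, Pi.single_apply]
  rw [hx, Fin.sum_univ_eight]
  simp only [ap_add, ap_smul, h]

/-- the word is trivial -/
def isOne (T : ℕ → ℕ) (r : List ℕ) : Bool :=
  (r.all fun y => Nat.blt y 14) && (List.range 8).all fun j => Nat.beq (run T r j) j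

/-- the word is `-1` -/
def isNeg (T : ℕ → ℕ) (r : List ℕ) : Bool :=
  (r.all fun y => Nat.blt y 14) && (List.range 8).all fun j => Nat.beq (run T r j) (j + 120)

theorem ev_of_isOne {b : ℕ → W} {T : ℕ → ℕ}
    (hb : ∀ y < 14, ∀ i < 240, look (T y) i < 240 ∧ ap (lt b 7 y) (rt i) = rt (look (T y) i))
    {r : List ℕ} (h : isOne T r = true) : ev (lt b 7) r = 1 := by
  unfold isOne at h
  rw [Bool.and_eq_true] at h
  apply ext_e
  intro j
  have h2 := List.all_eq_true.1 h.2 (7 - j) (List.mem_range.2 (by omega))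
  rw [ap_one, e_eq_rt, (ap_ev hb (fun y hy => Nat.le_of_ble_eq_true (List.all_eq_true.1 h.1 y hy))
    (by omega)).2, Nat.eq_of_beq_eq_true h2]

theorem ev_of_isNeg {b : ℕ → W} {T : ℕ → ℕ}
    (hb : ∀ y < 14, ∀ i < 240, look (T y) i < 240 ∧ ap (lt b 7 y) (rt i) = rt (look (T y) i))
    {r : List ℕ} (h : isNeg T r = true) : ev (lt b 7) r = neg := by
  unfold isNeg at h
  rw [Bool.and_eq_true] at h
  apply ext_e
  intro j
  have h2 := List.all_eq_true.1 h.2 (7 - j) (List.mem_range.2 (by omega))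
  rw [ap_neg_one, neg_e_eq_rt, e_eq_rt,
    (ap_ev hb (fun y hy => Nat.le_of_ble_eq_true (List.all_eq_true.1 h.1 y hy)) (by omega)).2,
    Nat.eq_of_beq_eq_true h2]
  congr 1
  have := j.2
  omega

/-- the words that separate the three homomorphisms: `(b c)²` and `(b d h g⁻¹ e)¹²` -/
def w1 : List ℕ := [0, 2, 0, 2]

def w2 : List ℕ := (List.replicate 12 [0, 4, 12, 11, 6]).flatten

/-- first family: the letters `t k` -/
noncomputable def b1 (i : ℕ) : W := if h : i < 7 then t ⟨i, h⟩ else 1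

/-- second family -/
def b2 (i : ℕ) : W := if h : i < 7 then mkW (M2 i) (N2 i) (ok2 i h) else 1

/-- third family -/
def b3 (i : ℕ) : W := if h : i < 7 then mkW (M3 i) (N3 i) (ok3 i h) else 1

theorem t_eq (k : Fin 7) : t k = mkW (M1 k) (N1 k) (ok1 k k.2) := by
  apply ext_e
  intro j
  unfold t
  rw [ap_mul, ap_s, ap_s, ap_mkW]
  have h : ∀ (k : Fin 7) (j : Fin 8), (e j - GM j (edg k).2 • e (edg k).2) -
      (GM j (edg k).1 - GM j (edg k).2 * GM (edg k).2 (edg k).1) • e (edg k).1 = M1 k *ᵥ e j := by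
    unfold e
    decide +kernel
  rw [form_sub_left, form_smul_left, form_e_e, form_e_e, form_e_e]
  exact h k j

theorem tab1 : ∀ y < 14, ∀ i < 240, look (T1 y) i < 240 ∧ ap (lt b1 7 y) (rt i) = rt (look (T1 y) i) :=
  table chk1 fun j hj x => by
    unfold b1
    rw [dif_pos hj, t_eq, ap_mkW]

theorem tab2 : ∀ y < 14, ∀ i < 240, look (T2 y) i < 240 ∧ ap (lt b2 7 y) (rt i) = rt (look (T2 y) i) :=
  table chk2 fun j hj x => by
    unfold b2
    rw [dif_pos hj, ap_mkW]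

theorem tab3 : ∀ y < 14, ∀ i < 240, look (T3 y) i < 240 ∧ ap (lt b3 7 y) (rt i) = rt (look (T3 y) i) :=
  table chk3 fun j hj x => by
    unfold b3
    rw [dif_pos hj, ap_mkW]

theorem all_one {T : ℕ → ℕ} (h : (Bound.rels.all fun r => isOne T r) = true) {b : ℕ → W}
    (hb : ∀ y < 14, ∀ i < 240, look (T y) i < 240 ∧ ap (lt b 7 y) (rt i) = rt (look (T y) i)) :
    ∀ r ∈ Bound.rels, ev (lt b 7) r = 1 := fun r hr =>
  ev_of_isOne hb (List.all_eq_true.1 h r hr)

theorem rel1 : ∀ r ∈ Bound.rels, ev (lt b1 7) r = 1 := all_one (T := T1) (by decide +kernel) tab1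
theorem rel2 : ∀ r ∈ Bound.rels, ev (lt b2 7) r = 1 := all_one (T := T2) (by decide +kernel) tab2
theorem rel3 : ∀ r ∈ Bound.rels, ev (lt b3 7) r = 1 := all_one (T := T3) (by decide +kernel) tab3

theorem w1_1 : ev (lt b1 7) w1 = 1 := ev_of_isOne tab1 (by decide +kernel)
theorem w1_2 : ev (lt b2 7) w1 = neg := ev_of_isNeg tab2 (by decide +kernel)
theorem w1_3 : ev (lt b3 7) w1 = neg := ev_of_isNeg tab3 (by decide +kernel)
theorem w2_1 : ev (lt b1 7) w2 = neg := ev_of_isNeg tab1 (by decide +kernel)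
theorem w2_2 : ev (lt b2 7) w2 = neg := ev_of_isNeg tab2 (by decide +kernel)
theorem w2_3 : ev (lt b3 7) w2 = 1 := ev_of_isOne tab3 (by decide +kernel)

end Cfsg.Agent.OddHalf.D9.EEight.Id.Homs
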