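import Mathlib

/-!
# The group theory of the identification

`D` perfect of order `≤ 4 |X|`, `X` simple, `p : D → L`, `π : L → X` onto, three homomorphisms `q k : D → K` and two elements
`n1, n2` of the kernel of `π ∘ p` with values `(1, n, n)` and `(n, n, 1)`.
-/

set_option autoImplicit false
set_option linter.unusedSectionVars false

namespace Cfsg.Agent.OddHalf.D9.EEight.Id.Core

open Subgroup

theorem exists_mem_of_card_two {G : Type*} [Group G] (H : Subgroup G) (h : Nat.card H = 2) :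
    ∃ m, m ∈ H ∧ m ≠ 1 ∧ ∀ y ∈ H, y = 1 ∨ y = m := by
  obtain ⟨a, b, hab, hu⟩ := Nat.card_eq_two_iff.1 h
  have h1 : ∀ y : H, y = a ∨ y = b := fun y => by
    have : y ∈ ({a, b} : Set H) := by rw [hu]; trivial
    exact this
  rcases h1 1 with h2 | h2
  · exact ⟨b, b.2, fun h3 => hab (by rw [← h2]; exact Subtype.ext h3.symm), fun y hy => by
      rcases h1 ⟨y, hy⟩ with h3 | h3
      · exact Or.inl (by have := congrArg Subtype.val (h3.trans h2.symm); exact this)
      · exact Or.inr (congrArg Subtype.val h3)⟩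
  · exact ⟨a, a.2, fun h3 => hab (by rw [← h2]; exact Subtype.ext h3), fun y hy => by
      rcases h1 ⟨y, hy⟩ with h3 | h3
      · exact Or.inr (congrArg Subtype.val h3)
      · exact Or.inl (by have := congrArg Subtype.val (h3.trans h2.symm); exact this)⟩

/-- the data -/
structure Dat (D L X K : Type*) [Group D] [Group L] [Group X] [Group K] where
  p : D →* L
  π : L →* X
  q1 : D →* K
  q2 : D →* K
  q3 : D →* K
  n : K
  n1 : D
  n2 : D
  psurj : Function.Surjective p
  πsurj : Function.Surjective π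
  perfect : commutator D = ⊤
  nn : n * n = 1
  hn : n ≠ 1
  ncomm : ∀ k, n * k = k * n
  θ1 : π (p n1) = 1
  θ2 : π (p n2) = 1
  a1 : q1 n1 = 1
  a2 : q2 n1 = n
  a3 : q3 n1 = n
  c1 : q1 n2 = n
  c2 : q2 n2 = n
  c3 : q3 n2 = 1
  card_le : Nat.card D ≤ 4 * Nat.card X

variable {D L X K : Type*} [Group D] [Group L] [Group X] [Group K]

namespace Dat

variable (S : Dat D L X K)

/-- the composite -/
def θ : D →* X := S.π.comp S.p

theorem θ_surj : Function.Surjective S.θ := S.πsurj.comp S.psurj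

theorem n1_mem : S.n1 ∈ S.θ.ker := S.θ1
theorem n2_mem : S.n2 ∈ S.θ.ker := S.θ2

theorem ne1 : (1 : D) ≠ S.n1 := fun h => S.hn (by rw [← S.a2, ← h, map_one])
theorem ne2 : (1 : D) ≠ S.n2 := fun h => S.hn (by rw [← S.c2, ← h, map_one])
theorem ne3 : (1 : D) ≠ S.n1 * S.n2 := fun h => S.hn (by
  have h1 := congrArg S.q1 h
  rw [map_one, map_mul, S.a1, S.c1, one_mul] at h1
  exact h1.symm)
theorem ne4 : S.n1 ≠ S.n2 := fun h => S.hn (by rw [← S.c1, ← h, S.a1])
theorem ne5 : S.n1 ≠ S.n1 * S.n2 := fun h => S.ne2 (mul_left_cancel (a := S.n1) (by rw [mul_one]; exact h))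
theorem ne6 : S.n2 ≠ S.n1 * S.n2 := fun h => S.ne1 (mul_right_cancel (b := S.n2) (by rw [one_mul]; exact h))

/-- the four elements -/
def A : Set D := {1, S.n1, S.n2, S.n1 * S.n2}

theorem A_ncard : S.A.ncard = 4 := by
  unfold A
  rw [Set.ncard_insert_of_notMem, Set.ncard_insert_of_notMem, Set.ncard_insert_of_notMem,
    Set.ncard_singleton]
  · rw [Set.mem_singleton_iff]; exact S.ne6
  · rw [Set.mem_insert_iff, Set.mem_singleton_iff, not_or]; exact ⟨S.ne4, S.ne5⟩
  · rw [Set.mem_insert_iff, Set.mem_insert_iff, Set.mem_singleton_iff, not_or, not_or]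
    exact ⟨S.ne1, S.ne2, S.ne3⟩

theorem card_θ : Nat.card S.θ.ker * Nat.card X = Nat.card D := by
  rw [← card_mul_index S.θ.ker, index_ker, MonoidHom.range_eq_top.2 S.θ_surj, card_top]

variable [Finite D] [Finite X]

theorem card_θ_le : Nat.card S.θ.ker ≤ 4 := by
  have h1 := S.card_θ
  have h2 := S.card_le
  rw [← h1] at h2
  exact Nat.le_of_mul_le_mul_right h2 Nat.card_pos

theorem ker_eq : (S.θ.ker : Set D) = S.A := by
  symm
  apply Set.eq_of_subset_of_ncard_le
  · rintro x (rfl | rfl | rfl | rfl)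
    · exact one_mem _
    · exact S.n1_mem
    · exact S.n2_mem
    · exact mul_mem S.n1_mem S.n2_mem
  · rw [A_ncard, ← Nat.card_coe_set_eq]
    exact S.card_θ_le
  · exact Set.toFinite _

theorem mem_ker {m : D} (hm : m ∈ S.θ.ker) : m = 1 ∨ m = S.n1 ∨ m = S.n2 ∨ m = S.n1 * S.n2 := by
  have h : m ∈ (S.θ.ker : Set D) := hm
  rw [S.ker_eq] at h
  exact h

theorem card_θ_eq : Nat.card S.θ.ker = 4 := by
  have h1 : Nat.card S.θ.ker = (S.θ.ker : Set D).ncard := (Nat.card_coe_set_eq _).symm ▸ rfl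
  rw [h1, S.ker_eq, A_ncard]

theorem q_or {m : D} (hm : m ∈ S.θ.ker) :
    (S.q1 m = 1 ∨ S.q1 m = S.n) ∧ (S.q2 m = 1 ∨ S.q2 m = S.n) ∧ (S.q3 m = 1 ∨ S.q3 m = S.n) := by
  rcases S.mem_ker hm with rfl | rfl | rfl | rfl
  · simp
  · exact ⟨Or.inl S.a1, Or.inr S.a2, Or.inr S.a3⟩
  · exact ⟨Or.inr S.c1, Or.inr S.c2, Or.inl S.c3⟩
  · refine ⟨Or.inr ?_, Or.inl ?_, Or.inr ?_⟩
    · rw [map_mul, S.a1, S.c1, one_mul]
    · rw [map_mul, S.a2, S.c2, S.nn]
    · rw [map_mul, S.a3, S.c3, mul_one]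

theorem eq_one_of_q {m : D} (hm : m ∈ S.θ.ker) (h1 : S.q1 m = 1) (h2 : S.q2 m = 1) : m = 1 := by
  rcases S.mem_ker hm with rfl | rfl | rfl | rfl
  · rfl
  · rw [S.a2] at h2; exact absurd h2 S.hn
  · rw [S.c2] at h2; exact absurd h2 S.hn
  · rw [map_mul, S.a1, S.c1, one_mul] at h1; exact absurd h1 S.hn

theorem sq_θ {m : D} (hm : m ∈ S.θ.ker) : m * m = 1 := by
  obtain ⟨h1, h2, -⟩ := S.q_or hm
  apply S.eq_one_of_q (mul_mem hm hm)
  · rw [map_mul]
    rcases h1 with h | h <;> rw [h]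
    · exact one_mul _
    · exact S.nn
  · rw [map_mul]
    rcases h2 with h | h <;> rw [h]
    · exact one_mul _
    · exact S.nn

theorem comm_θ {m : D} (hm : m ∈ S.θ.ker) (d : D) : d * m = m * d := by
  have h0 : d * m * d⁻¹ * m⁻¹ ∈ S.θ.ker :=
    mul_mem (S.θ.normal_ker.conj_mem m hm d) (inv_mem hm)
  have hc : ∀ (k x : K), (k = 1 ∨ k = S.n) → x * k * x⁻¹ * k⁻¹ = 1 := by
    rintro k x (rfl | rfl)
    · simp
    · rw [← S.ncomm x, mul_inv_cancel_right, mul_inv_cancel]
  obtain ⟨h1, h2, -⟩ := S.q_or hm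
  have h3 := S.eq_one_of_q h0 (by simp only [map_mul, map_inv]; exact hc _ _ h1)
    (by simp only [map_mul, map_inv]; exact hc _ _ h2)
  rw [mul_inv_eq_one] at h3
  exact mul_inv_eq_iff_eq_mul.1 h3

/-- **The kernel of `π` has exponent 2.** -/
theorem sq_ker {z : L} (hz : z ∈ S.π.ker) : z * z = 1 := by
  obtain ⟨m, rfl⟩ := S.psurj z
  rw [← map_mul, S.sq_θ (m := m) hz, map_one]

theorem finite_L (S : Dat D L X K) : Finite L := Finite.of_surjective _ S.psurj

/-- **The kernel of `π` has order at most 4.** -/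
theorem card_ker_le : Nat.card S.π.ker ≤ 4 := by
  have := S.finite_L
  rw [← S.card_θ_eq]
  have h : Function.Surjective (fun m : S.θ.ker => (⟨S.p m, m.2⟩ : S.π.ker)) := by
    rintro ⟨z, hz⟩
    obtain ⟨m, rfl⟩ := S.psurj z
    exact ⟨⟨m, hz⟩, rfl⟩
  exact Nat.card_le_card_of_surjective _ h

variable [IsSimpleGroup X]

/-- a homomorphism from `D` with a nontrivial value on `ker θ` has kernel in `ker θ` -/
theorem ker_le {f : D →* K} {m : D} (hm : m ∈ S.θ.ker) (hf : f m ≠ 1) : f.ker ≤ S.θ.ker := by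
  have h1 : (f.ker.map S.θ).Normal := Normal.map f.normal_ker _ S.θ_surj
  rcases h1.eq_bot_or_eq_top with h | h
  · rw [Subgroup.map_eq_bot_iff] at h
    exact h
  · exfalso
    have h2 : ∀ d : D, ∃ k ∈ f.ker, ∃ z ∈ S.θ.ker, d = k * z := by
      intro d
      have h3 : S.θ d ∈ f.ker.map S.θ := by rw [h]; trivial
      obtain ⟨k, hk, h4⟩ := h3
      exact ⟨k, hk, k⁻¹ * d, by rw [MonoidHom.mem_ker, map_mul, map_inv, h4, inv_mul_cancel],
        by rw [mul_inv_cancel_left]⟩
    have h5 : commutator D ≤ f.ker := by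
      rw [_root_.commutator_def, commutator_le]
      intro x _ y _
      obtain ⟨k, hk, z, hz, rfl⟩ := h2 x
      obtain ⟨l, hl, w, hw, rfl⟩ := h2 y
      rw [MonoidHom.mem_ker, commutatorElement_def]
      simp only [map_mul, map_inv]
      rw [MonoidHom.mem_ker.1 hk, MonoidHom.mem_ker.1 hl, one_mul, one_mul]
      have h6 : f z * f w = f w * f z := by rw [← map_mul, ← map_mul, S.comm_θ hw z]
      rw [h6]
      group
    rw [S.perfect] at h5
    exact hf (h5 (mem_top m))

theorem surj_of_val {f : D →* K} {m : D} (hm : m ∈ S.θ.ker) (hf : f m ≠ 1)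
    (hK : Nat.card K = 2 * Nat.card X) : Function.Surjective f := by
  have : Finite K := (Nat.card_pos_iff.1 (by rw [hK]; have : 0 < Nat.card X := Nat.card_pos
                                             omega)).2
  have h1 := S.ker_le hm hf
  have h2 : f.ker ≠ S.θ.ker := fun h => hf (by rw [← h] at hm; exact hm)
  have h3 : Nat.card f.ker ∣ 4 := by rw [← S.card_θ_eq]; exact card_dvd_of_le h1
  have h4 : Nat.card f.ker ≠ 4 := by
    intro h5
    apply h2
    apply eq_of_le_of_card_ge h1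
    rw [S.card_θ_eq, h5]
  have h5 : Nat.card f.ker ≤ 2 := by
    have h6 : Nat.card f.ker ≤ 4 := Nat.le_of_dvd (by norm_num) h3
    generalize Nat.card f.ker = c at h3 h4 h6 ⊢
    interval_cases c <;> omega
  have h6 : Nat.card f.ker * Nat.card f.range = Nat.card D := by
    rw [← index_ker, card_mul_index]
  have h7 := S.card_θ
  rw [S.card_θ_eq] at h7
  have h8 : Nat.card K ≤ Nat.card f.range := by
    rw [hK]
    have h9 : 2 * (2 * Nat.card X) ≤ 2 * Nat.card f.range := by
      rw [← mul_assoc]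
      change 4 * _ ≤ _
      rw [h7, ← h6]
      exact Nat.mul_le_mul_right _ h5
    omega
  rw [← MonoidHom.range_eq_top]
  exact eq_top_of_le_card _ h8

/-- **Identification.** -/
theorem iso (hK : Nat.card K = 2 * Nat.card X) (hne : S.π.ker ≠ ⊥) (hcyc : IsCyclic S.π.ker) :
    Nonempty (L ≃* K) := by
  classical
  have := S.finite_L
  have : Finite K := (Nat.card_pos_iff.1 (by rw [hK]; have : 0 < Nat.card X := Nat.card_pos
                                             omega)).2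
  -- the kernel of `π` has order 2
  have hk2 : Nat.card S.π.ker = 2 := by
    have := Fintype.ofFinite S.π.ker
    have h1 := IsCyclic.card_pow_eq_one_le (α := S.π.ker) (n := 2) (by norm_num)
    rw [Finset.filter_true_of_mem (fun z _ => by
      rw [pow_two]; exact Subtype.ext (S.sq_ker z.2)), Finset.card_univ, ← Nat.card_eq_fintype_card] at h1
    have h2 : Nat.card S.π.ker ≠ 1 := fun h => hne (Subgroup.card_eq_one.1 h)
    have h3 : 0 < Nat.card S.π.ker := Nat.card_pos
    omega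
  have hL : Nat.card L = 2 * Nat.card X := by
    rw [← hk2, ← card_mul_index S.π.ker, index_ker, MonoidHom.range_eq_top.2 S.πsurj, card_top]
  have hp : Nat.card S.p.ker = 2 := by
    have h1 : Nat.card S.p.ker * Nat.card L = Nat.card D := by
      rw [← card_mul_index S.p.ker, index_ker, MonoidHom.range_eq_top.2 S.psurj, card_top]
    rw [← S.card_θ, S.card_θ_eq, hL] at h1
    have h2 : 0 < Nat.card X := Nat.card_pos
    have h3 : Nat.card S.p.ker * 2 * Nat.card X = 2 * 2 * Nat.card X := by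
      rw [mul_assoc]; exact h1
    have h4 := Nat.eq_of_mul_eq_mul_right h2 h3
    omega
  obtain ⟨m, hm⟩ := exists_mem_of_card_two S.p.ker hp
  have hmθ : m ∈ S.θ.ker := by
    change S.π (S.p m) = 1
    rw [MonoidHom.mem_ker.1 hm.1, map_one]
  have key : ∀ f : D →* K, f m = 1 → (∃ x ∈ S.θ.ker, f x ≠ 1) → Nonempty (L ≃* K) := by
    intro f hf hx
    obtain ⟨x, hx, hfx⟩ := hx
    have hs := S.surj_of_val hx hfx hK
    have hle : S.p.ker ≤ f.ker := by
      intro y hy
      rcases hm.2.2 y hy with rfl | rfl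
      · exact one_mem _
      · exact hf
    refine ⟨MulEquiv.ofBijective (S.p.liftOfSurjective S.psurj ⟨f, hle⟩) ?_⟩
    have h1 : Function.Surjective (S.p.liftOfSurjective S.psurj ⟨f, hle⟩) := by
      intro k
      obtain ⟨d, rfl⟩ := hs k
      exact ⟨S.p d, S.p.liftOfRightInverse_comp_apply _ _ ⟨f, hle⟩ d⟩
    exact h1.bijective_of_nat_card_le (by rw [hL, hK])
  rcases S.mem_ker hmθ with h | h | h | h
  · exact absurd h hm.2.1
  · exact key S.q1 (by rw [h, S.a1]) ⟨S.n2, S.n2_mem, by rw [S.c1]; exact S.hn⟩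
  · exact key S.q3 (by rw [h, S.c3]) ⟨S.n1, S.n1_mem, by rw [S.a3]; exact S.hn⟩
  · exact key S.q2 (by rw [h, map_mul, S.a2, S.c2, S.nn]) ⟨S.n1, S.n1_mem, by rw [S.a2]; exact S.hn⟩
end Dat

end Cfsg.Agent.OddHalf.D9.EEight.Id.Core
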