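import Mathlib
import Cfsg.Agent.KFacts.OddLift.Basic
import Cfsg.Agent.OddHalf.D9.EEight.Id.CertL1

/-!
# A group generated by seven letters with the 23 relators is perfect
-/

set_option autoImplicit false

namespace Cfsg.Agent.OddHalf.D9.EEight.Id.Perfect

open Subgroup Cfsg.Agent.SporadicRecognition.CosetCert
open Cfsg.Agent.KFacts.OddLift.Basic

theorem add_trivial {B : Type*} [AddCommGroup B] {b c d e f g h : B}
    (h1 : b + (b + b) = 0) (h2 : -b + (-g + (-c + (-b + (c + g)))) = 0)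
    (h3 : b + (-c + (b + (c + (-b + c)))) = 0)
    (h4 : -c + (-d + (c + (-d + (-c + d)))) = 0)
    (h5 : -d + (-e + (d + (f + (d + -f)))) = 0)
    (h6 : -e + (-f + (e + (h + (e + -h)))) = 0)
    (h7 : f + (-h + (f + (h + (-f + h)))) = 0)
    (h8 : -d + (-g + (d + (e + (-g + -e)))) = 0)
    (h9 : g + (g + g) = 0) :
    b = 0 ∧ c = 0 ∧ d = 0 ∧ e = 0 ∧ f = 0 ∧ g = 0 ∧ h = 0 := by
  have e1 : b = (b + (b + b)) + (-b + (-g + (-c + (-b + (c + g))))) := by abel
  have e1 : b = 0 := by rw [e1, h1, h2, add_zero]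
  have e2 : c = (b + (-c + (b + (c + (-b + c))))) - b := by abel
  have e2 : c = 0 := by rw [e2, h3, e1, sub_zero]
  have e3 : d = -(-c + (-d + (c + (-d + (-c + d))))) - c := by abel
  have e3 : d = 0 := by rw [e3, h4, e2, neg_zero, sub_zero]
  have e4 : e = -(-d + (-e + (d + (f + (d + -f))))) + d := by abel
  have e4 : e = 0 := by rw [e4, h5, e3, neg_zero, add_zero]
  have e5 : f = -(-e + (-f + (e + (h + (e + -h))))) + e := by abel
  have e5 : f = 0 := by rw [e5, h6, e4, neg_zero, add_zero]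
  have e6 : h = (f + (-h + (f + (h + (-f + h))))) - f := by abel
  have e6 : h = 0 := by rw [e6, h7, e5, sub_zero]
  have e7 : g = (g + (g + g)) + (-d + (-g + (d + (e + (-g + -e))))) := by abel
  have e7 : g = 0 := by rw [e7, h8, h9, add_zero]
  exact ⟨e1, e2, e3, e4, e5, e7, e6⟩

theorem comm_trivial {A : Type*} [CommGroup A] {b : ℕ → A}
    (hrel : ∀ r ∈ CertL1.rels, ev (lt b 7) r = 1) : ∀ i < 7, b i = 1 := by
  have h1 := hrel [0, 0, 0] (by decide)
  have h2 := hrel [1, 11, 3, 1, 2, 10] (by decide)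
  have h3 := hrel [0, 3, 0, 2, 1, 2] (by decide)
  have h4 := hrel [3, 5, 2, 5, 3, 4] (by decide)
  have h5 := hrel [5, 7, 4, 8, 4, 9] (by decide)
  have h6 := hrel [7, 9, 6, 12, 6, 13] (by decide)
  have h7 := hrel [8, 13, 8, 12, 9, 12] (by decide)
  have h8 := hrel [5, 11, 4, 6, 11, 7] (by decide)
  have h9 := hrel [10, 10, 10] (by decide)
  have l0 : lt b 7 0 = b 0 := lt_even b 7 (by omega) (by omega)
  have l1 : lt b 7 1 = (b 0)⁻¹ := lt_odd b 7 (by omega) (by omega)
  have l2 : lt b 7 2 = b 1 := lt_even b 7 (by omega) (by omega)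
  have l3 : lt b 7 3 = (b 1)⁻¹ := lt_odd b 7 (by omega) (by omega)
  have l4 : lt b 7 4 = b 2 := lt_even b 7 (by omega) (by omega)
  have l5 : lt b 7 5 = (b 2)⁻¹ := lt_odd b 7 (by omega) (by omega)
  have l6 : lt b 7 6 = b 3 := lt_even b 7 (by omega) (by omega)
  have l7 : lt b 7 7 = (b 3)⁻¹ := lt_odd b 7 (by omega) (by omega)
  have l8 : lt b 7 8 = b 4 := lt_even b 7 (by omega) (by omega)
  have l9 : lt b 7 9 = (b 4)⁻¹ := lt_odd b 7 (by omega) (by omega)
  have l10 : lt b 7 10 = b 5 := lt_even b 7 (by omega) (by omega)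
  have l11 : lt b 7 11 = (b 5)⁻¹ := lt_odd b 7 (by omega) (by omega)
  have l12 : lt b 7 12 = b 6 := lt_even b 7 (by omega) (by omega)
  have l13 : lt b 7 13 = (b 6)⁻¹ := lt_odd b 7 (by omega) (by omega)
  simp only [ev_cons, ev_nil, mul_one, l0, l1, l2, l3, l4, l5, l6, l7, l8, l9, l10, l11, l12, l13]
    at h1 h2 h3 h4 h5 h6 h7 h8 h9
  obtain ⟨k0, k1, k2, k3, k4, k5, k6⟩ := add_trivial (B := Additive A) (b := Additive.ofMul (b 0))
    (c := Additive.ofMul (b 1)) (d := Additive.ofMul (b 2)) (e := Additive.ofMul (b 3))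
    (f := Additive.ofMul (b 4)) (g := Additive.ofMul (b 5)) (h := Additive.ofMul (b 6))
    h1 h2 h3 h4 h5 h6 h7 h8 h9
  intro i hi
  interval_cases i
  · exact k0
  · exact k1
  · exact k2
  · exact k3
  · exact k4
  · exact k5
  · exact k6

/-- **A group generated by the letters is perfect.** -/
theorem perfect {D : Type*} [Group D] {b : ℕ → D} (hrel : ∀ r ∈ CertL1.rels, ev (lt b 7) r = 1)
    (hgen : closure {x | ∃ i < 7, b i = x} = ⊤) : commutator D = ⊤ := by
  have h1 : ∀ r ∈ CertL1.rels, ev (lt (fun i => Abelianization.of (b i)) 7) r = 1 := by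
    intro r hr
    rw [← map_ev_lt, hrel r hr, map_one]
  have h2 := comm_trivial h1
  rw [eq_top_iff, ← hgen, closure_le]
  rintro _ ⟨i, hi, rfl⟩
  rw [SetLike.mem_coe, ← Abelianization.ker_of, MonoidHom.mem_ker]
  exact h2 i hi

end Cfsg.Agent.OddHalf.D9.EEight.Id.Perfect
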