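import Mathlib
import Cfsg.Agent.OddHalf.D9.EEight.Id.Core
import Cfsg.Agent.OddHalf.D9.EEight.Id.Perfect
import Cfsg.Agent.OddHalf.D9.EEight.Id.Bound

/-!
# The subdirect product
-/

set_option autoImplicit false

namespace Cfsg.Agent.OddHalf.D9.EEight.Id.Sub

open Subgroup Cfsg.Agent.SporadicRecognition.CosetCert
open Cfsg.Agent.KFacts.OddLift.Basic Cfsg.Agent.OddHalf.D9.EEight.Id.Core

theorem lt_congr {G : Type*} [Group G] {b b' : ℕ → G} {n : ℕ} (h : ∀ i < n, b i = b' i) (y : ℕ) :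
    lt b n y = lt b' n y := by
  unfold lt
  split
  · rename_i hy
    rw [h (y / 2) (by omega)]
  · rfl

theorem ev_congr {G : Type*} [Group G] {b b' : ℕ → G} {n : ℕ} (h : ∀ i < n, b i = b' i) (r : List ℕ) :
    ev (lt b n) r = ev (lt b' n) r := by
  congr 1
  funext y
  exact lt_congr h y

variable {G : Type*} [Group G] (b : ℕ → G)

/-- the letters in the group they generate -/
def bD (i : ℕ) : Bound.S b 7 := if h : i < 7 then ⟨b i, subset_closure ⟨i, h, rfl⟩⟩ else 1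

theorem coe_bD {i : ℕ} (h : i < 7) : (bD b i : G) = b i := by
  unfold bD
  rw [dif_pos h]

theorem coe_ev (r : List ℕ) : ((ev (lt (bD b) 7) r : Bound.S b 7) : G) = ev (lt b 7) r := by
  have h := map_ev_lt (bD b) 7 (Bound.S b 7).subtype r
  rw [Subgroup.subtype_apply] at h
  rw [h]
  exact ev_congr (fun i hi => coe_bD b hi) r

theorem closure_bD : closure {x | ∃ i < 7, bD b i = x} = ⊤ := by
  apply map_injective (Bound.S b 7).subtype_injective
  rw [MonoidHom.map_closure, ← MonoidHom.range_eq_map, range_subtype]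
  unfold Bound.S
  congr 1
  ext x
  constructor
  · rintro ⟨_, ⟨i, hi, rfl⟩, rfl⟩
    exact ⟨i, hi, (coe_bD b hi).symm⟩
  · rintro ⟨i, hi, rfl⟩
    exact ⟨bD b i, ⟨i, hi, rfl⟩, coe_bD b hi⟩

theorem exists_dat.{u, v, w} {L : Type u} {X : Type w} {K : Type v} [Group L] [Group X] [Group K] (π : L →* X)
    (hπ : Function.Surjective π) {B : ℕ → L} {k1 k2 k3 : ℕ → K}
    (hgen : closure {x | ∃ i < 7, B i = x} = ⊤)
    (hB : ∀ r ∈ Bound.rels, ev (lt B 7) r = 1) (h1 : ∀ r ∈ Bound.rels, ev (lt k1 7) r = 1)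
    (h2 : ∀ r ∈ Bound.rels, ev (lt k2 7) r = 1) (h3 : ∀ r ∈ Bound.rels, ev (lt k3 7) r = 1)
    (pi : K →* X) (hpi : ∀ i, π (B i) = pi (k1 i)) {n : K} (nn : n * n = 1) (hn : n ≠ 1)
    (ncomm : ∀ k, n * k = k * n) (hpin : pi n = 1) {w1 w2 : List ℕ}
    (a1 : ev (lt k1 7) w1 = 1) (a2 : ev (lt k2 7) w1 = n) (a3 : ev (lt k3 7) w1 = n)
    (c1 : ev (lt k1 7) w2 = n) (c2 : ev (lt k2 7) w2 = n) (c3 : ev (lt k3 7) w2 = 1)
    (hX : Nat.card X = 174182400) :
    ∃ (D : Type (max u v)) (_ : Group D) (_ : Finite D) (S : Dat D L X K), S.π = π := by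
  set b : ℕ → L × K × K × K := fun i => (B i, k1 i, k2 i, k3 i) with hb
  have e0 : ∀ r, (ev (lt b 7) r).1 = ev (lt B 7) r := fun r => map_ev_lt b 7 (MonoidHom.fst L (K × K × K)) r
  have e1 : ∀ r, (ev (lt b 7) r).2.1 = ev (lt k1 7) r := fun r =>
    map_ev_lt b 7 ((MonoidHom.fst K (K × K)).comp (MonoidHom.snd L (K × K × K))) r
  have e2 : ∀ r, (ev (lt b 7) r).2.2.1 = ev (lt k2 7) r := fun r =>
    map_ev_lt b 7 ((MonoidHom.fst K K).comp ((MonoidHom.snd K (K × K)).comp (MonoidHom.snd L (K × K × K)))) r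
  have e3 : ∀ r, (ev (lt b 7) r).2.2.2 = ev (lt k3 7) r := fun r =>
    map_ev_lt b 7 ((MonoidHom.snd K K).comp ((MonoidHom.snd K (K × K)).comp (MonoidHom.snd L (K × K × K)))) r
  have hrel : ∀ r ∈ Bound.rels, ev (lt b 7) r = 1 := by
    intro r hr
    refine Prod.ext ?_ (Prod.ext ?_ (Prod.ext ?_ ?_))
    · rw [e0, hB r hr]; rfl
    · rw [e1, h1 r hr]; rfl
    · rw [e2, h2 r hr]; rfl
    · rw [e3, h3 r hr]; rfl
  obtain ⟨hfin, hcard⟩ := Bound.bound hrel
  have hrelD : ∀ r ∈ CertL1.rels, ev (lt (bD b) 7) r = 1 := by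
    intro r hr
    apply Subtype.ext
    rw [coe_ev, hrel r hr]
    rfl
  have hθ : ∀ d : Bound.S b 7, π (d : L × K × K × K).1 = pi (d : L × K × K × K).2.1 := by
    have h : ((π.comp (MonoidHom.fst L (K × K × K))).comp (Bound.S b 7).subtype) =
        (pi.comp ((MonoidHom.fst K (K × K)).comp (MonoidHom.snd L (K × K × K)))).comp (Bound.S b 7).subtype := by
      apply MonoidHom.eq_of_eqOn_dense (closure_bD b)
      rintro _ ⟨i, hi, rfl⟩
      change π (bD b i : L × K × K × K).1 = pi (bD b i : L × K × K × K).2.1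
      rw [coe_bD b hi]
      exact hpi i
    intro d
    exact DFunLike.congr_fun h d
  refine ⟨Bound.S b 7, inferInstance, hfin,
    { p := (MonoidHom.fst L (K × K × K)).comp (Bound.S b 7).subtype
      π := π
      q1 := ((MonoidHom.fst K (K × K)).comp (MonoidHom.snd L (K × K × K))).comp (Bound.S b 7).subtype
      q2 := ((MonoidHom.fst K K).comp ((MonoidHom.snd K (K × K)).comp (MonoidHom.snd L (K × K × K)))).comp
        (Bound.S b 7).subtype
      q3 := ((MonoidHom.snd K K).comp ((MonoidHom.snd K (K × K)).comp (MonoidHom.snd L (K × K × K)))).comp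
        (Bound.S b 7).subtype
      n := n
      n1 := ev (lt (bD b) 7) w1
      n2 := ev (lt (bD b) 7) w2
      psurj := ?_
      πsurj := hπ
      perfect := Perfect.perfect hrelD (closure_bD b)
      nn := nn
      hn := hn
      ncomm := ncomm
      θ1 := ?_
      θ2 := ?_
      a1 := ?_
      a2 := ?_
      a3 := ?_
      c1 := ?_
      c2 := ?_
      c3 := ?_
      card_le := ?_ }, rfl⟩
  · rw [← MonoidHom.range_eq_top, eq_top_iff, ← hgen, closure_le]
    rintro _ ⟨i, hi, rfl⟩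
    exact ⟨bD b i, by
      change (bD b i : L × K × K × K).1 = B i
      rw [coe_bD b hi]⟩
  · change π ((ev (lt (bD b) 7) w1 : Bound.S b 7) : L × K × K × K).1 = 1
    rw [hθ, coe_ev, e1, a1, map_one]
  · change π ((ev (lt (bD b) 7) w2 : Bound.S b 7) : L × K × K × K).1 = 1
    rw [hθ, coe_ev, e1, c1, hpin]
  · change ((ev (lt (bD b) 7) w1 : Bound.S b 7) : L × K × K × K).2.1 = 1
    rw [coe_ev, e1, a1]
  · change ((ev (lt (bD b) 7) w1 : Bound.S b 7) : L × K × K × K).2.2.1 = n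
    rw [coe_ev, e2, a2]
  · change ((ev (lt (bD b) 7) w1 : Bound.S b 7) : L × K × K × K).2.2.2 = n
    rw [coe_ev, e3, a3]
  · change ((ev (lt (bD b) 7) w2 : Bound.S b 7) : L × K × K × K).2.1 = n
    rw [coe_ev, e1, c1]
  · change ((ev (lt (bD b) 7) w2 : Bound.S b 7) : L × K × K × K).2.2.1 = n
    rw [coe_ev, e2, c2]
  · change ((ev (lt (bD b) 7) w2 : Bound.S b 7) : L × K × K × K).2.2.2 = 1
    rw [coe_ev, e3, c3]
  · rw [hX]
    exact hcard

end Cfsg.Agent.OddHalf.D9.EEight.Id.Sub
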