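import Mathlib
import Cfsg.Agent.OddHalf.D9.EEight.Id.Sub
import Cfsg.Agent.OddHalf.D9.EEight.Id.Homs

/-!
# Identification of `2.Ω₈⁺(2)`

Every perfect central extension of `P Q = Ω₈⁺(2)` by a 2-group has kernel of exponent 2 and order at most 4; if the kernel
is cyclic and nontrivial the extension is `K₀ = W(E₈)'`.
-/

set_option autoImplicit false

namespace Cfsg.Agent.OddHalf.D9.EEight.Id.Main

open Subgroup Cfsg.Agent.OddHalf.D9.EEight Cfsg.Agent.OddHalf.D9.EEight.Id.Gen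
open Cfsg.Agent.OddHalf.D9.EEight.Id.ModTwo Cfsg.Agent.OddHalf.D9.EEight.Id.Onto
open Cfsg.Agent.OddHalf.D9.EEight.Id.Homs
open Cfsg.Agent.SporadicRecognition.CosetCert Cfsg.Agent.KFacts.OddLift.Basic

theorem cube_rel : ∀ i < 7, [2 * i, 2 * i, 2 * i] ∈ Bound.rels := by decide

theorem cube {G : Type*} [Group G] {b : ℕ → G} (h : ∀ r ∈ Bound.rels, ev (lt b 7) r = 1) {i : ℕ}
    (hi : i < 7) : b i ^ 3 = 1 := by
  have h1 := h _ (cube_rel i hi)
  rw [ev_cons, ev_cons, ev_cons, ev_nil, mul_one, lt_even b 7 (by omega) (by omega)] at h1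
  have h2 : 2 * i / 2 = i := by omega
  rw [h2] at h1
  rw [pow_three, h1]

theorem det_eq_one {b : ℕ → W} (h : ∀ r ∈ Bound.rels, ev (lt b 7) r = 1) {i : ℕ} (hi : i < 7) :
    det (b i) = 1 := by
  have h1 : det (b i) ^ 3 = 1 := by rw [← map_pow, cube h hi, map_one]
  rcases Int.units_eq_one_or (det (b i)) with h2 | h2
  · exact h2
  · rw [h2] at h1
    exact absurd h1 (by decide)

/-- letters in `K₀` -/
noncomputable def toK (b : ℕ → W) (h : ∀ r ∈ Bound.rels, ev (lt b 7) r = 1) (i : ℕ) : K₀ :=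
  if hi : i < 7 then ⟨b i, det_eq_one h hi⟩ else 1

theorem coe_toK {b : ℕ → W} (h : ∀ r ∈ Bound.rels, ev (lt b 7) r = 1) {i : ℕ} (hi : i < 7) :
    (toK b h i : W) = b i := by
  unfold toK
  rw [dif_pos hi]

theorem coe_ev_toK {b : ℕ → W} (h : ∀ r ∈ Bound.rels, ev (lt b 7) r = 1) (r : List ℕ) :
    ((ev (lt (toK b h) 7) r : K₀) : W) = ev (lt b 7) r := by
  have h1 := map_ev_lt (toK b h) 7 K₀.subtype r
  rw [Subgroup.subtype_apply] at h1
  rw [h1]
  exact Sub.ev_congr (fun i hi => coe_toK h hi) r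

theorem rel_toK {b : ℕ → W} (h : ∀ r ∈ Bound.rels, ev (lt b 7) r = 1) :
    ∀ r ∈ Bound.rels, ev (lt (toK b h) 7) r = 1 := fun r hr =>
  Subtype.ext (by rw [coe_ev_toK, h r hr]; rfl)

theorem val_toK {b : ℕ → W} (h : ∀ r ∈ Bound.rels, ev (lt b 7) r = 1) {r : List ℕ} {x : K₀}
    (hx : ev (lt b 7) r = x) : ev (lt (toK b h) 7) r = x :=
  Subtype.ext (by rw [coe_ev_toK, hx])

theorem closure_k1 : Subgroup.closure {x | ∃ i < 7, toK b1 rel1 i = x} = ⊤ := by
  apply map_injective K₀.subtype_injective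
  rw [MonoidHom.map_closure, ← MonoidHom.range_eq_map, range_subtype]
  refine Eq.trans ?_ closure_t
  congr 1
  ext x
  constructor
  · rintro ⟨_, ⟨i, hi, rfl⟩, rfl⟩
    refine ⟨⟨i, hi⟩, ?_⟩
    rw [Subgroup.subtype_apply, coe_toK rel1 hi]
    unfold b1
    rw [dif_pos hi]
  · rintro ⟨k, rfl⟩
    refine ⟨toK b1 rel1 k, ⟨k, k.2, rfl⟩, ?_⟩
    rw [Subgroup.subtype_apply, coe_toK rel1 k.2]
    unfold b1
    rw [dif_pos k.2]

/-- letters in `P Q` -/
noncomputable def x (i : ℕ) : ClassicalGeometry.OrthAut1.P Q := pi1 (toK b1 rel1 i)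

theorem rel_x : ∀ r ∈ Bound.rels, ev (lt x 7) r = 1 := by
  intro r hr
  have h := map_ev_lt (toK b1 rel1) 7 pi1 r
  rw [rel_toK rel1 r hr, map_one] at h
  exact h.symm

theorem odd_x (i : ℕ) : Odd (orderOf (x i)) := by
  by_cases hi : i < 7
  · exact Odd.of_dvd_nat (by decide : Odd 3) (orderOf_dvd_of_pow_eq_one (cube rel_x hi))
  · unfold x toK
    rw [dif_neg hi, map_one, orderOf_one]
    exact odd_one

theorem closure_x : Subgroup.closure {y | ∃ i < 7, x i = y} = ⊤ := by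
  have h := congrArg (Subgroup.map pi1) closure_k1
  rw [MonoidHom.map_closure, ← MonoidHom.range_eq_map, MonoidHom.range_eq_top.2 pi1_surj] at h
  rw [← h]
  congr 1
  ext y
  constructor
  · rintro ⟨i, hi, rfl⟩
    exact ⟨_, ⟨i, hi, rfl⟩, rfl⟩
  · rintro ⟨_, ⟨i, hi, rfl⟩, rfl⟩
    exact ⟨i, hi, rfl⟩

theorem okr_rels : ∀ r ∈ Bound.rels, okr [] r = true := by decide +kernel

theorem card_K : Nat.card K₀ = 2 * Nat.card (ClassicalGeometry.OrthAut1.P Q) := by
  have h1 : Nat.card pi1.ker = 2 := by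
    rw [Nat.card_eq_two_iff]
    refine ⟨1, ⟨negK, pi1_eq_one.2 (Or.inr rfl)⟩, ?_, ?_⟩
    · intro h
      exact negK_ne_one (congrArg Subtype.val h).symm
    · ext w
      simp only [Set.mem_insert_iff, Set.mem_singleton_iff, Set.mem_univ, iff_true]
      rcases pi1_eq_one.1 w.2 with h | h
      · exact Or.inl (Subtype.ext h)
      · exact Or.inr (Subtype.ext h)
  have h2 := card_mul_index pi1.ker
  rw [index_ker, MonoidHom.range_eq_top.2 pi1_surj, card_top, h1] at h2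
  exact h2.symm

/-- **`K₀` is perfect.** -/
theorem commutator_K : commutator K₀ = ⊤ := Perfect.perfect (rel_toK rel1) closure_k1

theorem exists_dat.{u} {L : Type u} [Group L] {π : L →* ClassicalGeometry.OrthAut1.P Q} (hπ : Cov π) :
    ∃ (D : Type u) (_ : Group D) (_ : Finite D)
      (S : Core.Dat D L (ClassicalGeometry.OrthAut1.P Q) K₀), S.π = π := by
  obtain ⟨B, hB, hBo⟩ := hπ.exists_lifts odd_x
  have hgen := hπ.closure_eq_top hB closure_x
  have hrel : ∀ r ∈ Bound.rels, ev (lt B 7) r = 1 := fun r hr =>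
    hπ.ev_eq_one hB hBo (odd := []) (by simp) (okr_rels r hr) (rel_x r hr)
  exact Sub.exists_dat.{u, 0, 0} π hπ.surj hgen hrel (rel_toK rel1) (rel_toK rel2) (rel_toK rel3) pi1 hB
    negK_mul_self negK_ne_one negK_comm (pi1_eq_one.2 (Or.inr rfl)) (w1 := w1) (w2 := w2)
    (val_toK rel1 w1_1) (val_toK rel2 w1_2) (val_toK rel3 w1_3)
    (val_toK rel1 w2_1) (val_toK rel2 w2_2) (val_toK rel3 w2_3) card_P

instance : Finite (ClassicalGeometry.OrthAut1.P Q) :=
  (Nat.card_pos_iff.1 (by rw [card_P]; norm_num)).2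

instance : IsSimpleGroup (ClassicalGeometry.OrthAut1.P Q) := simple_P

theorem finite_L {L : Type*} [Group L] {π : L →* ClassicalGeometry.OrthAut1.P Q} (hπ : Cov π) : Finite L := by
  obtain ⟨D, _, _, S, rfl⟩ := exists_dat hπ
  exact S.finite_L

theorem ker_sq {L : Type*} [Group L] {π : L →* ClassicalGeometry.OrthAut1.P Q} (hπ : Cov π) {z : L}
    (hz : π z = 1) : z * z = 1 := by
  obtain ⟨D, _, _, S, rfl⟩ := exists_dat hπ
  exact S.sq_ker hz

theorem card_ker_le {L : Type*} [Group L] {π : L →* ClassicalGeometry.OrthAut1.P Q} (hπ : Cov π) :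
    Nat.card π.ker ≤ 4 := by
  obtain ⟨D, _, _, S, rfl⟩ := exists_dat hπ
  exact S.card_ker_le

/-- **Identification of `2.Ω₈⁺(2)`.** -/
theorem exists_iso {L : Type*} [Group L] {π : L →* ClassicalGeometry.OrthAut1.P Q} (hπ : Cov π)
    (hne : π.ker ≠ ⊥) (hcyc : IsCyclic π.ker) : Nonempty (L ≃* K₀) := by
  obtain ⟨D, _, _, S, rfl⟩ := exists_dat hπ
  exact S.iso card_K hne hcyc

end Cfsg.Agent.OddHalf.D9.EEight.Id.Main
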