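import Mathlib
import Cfsg.Agent.OddHalf.D9.EEight.Id.Main

/-!
# The universal 2-cover of `Ω₈⁺(2)`: letters and the three homomorphisms onto `K₀`
-/

set_option autoImplicit false

namespace Cfsg.Agent.OddHalf.D9.EEight.Id.Letters

open Subgroup Cfsg.Agent.OddHalf.D9.EEight Cfsg.Agent.OddHalf.D9.EEight.Id.Gen
open Cfsg.Agent.OddHalf.D9.EEight.Id.ModTwo Cfsg.Agent.OddHalf.D9.EEight.Id.Onto
open Cfsg.Agent.OddHalf.D9.EEight.Id.Homs Cfsg.Agent.OddHalf.D9.EEight.Id.Main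
open Cfsg.Agent.SporadicRecognition.CosetCert Cfsg.Agent.KFacts.OddLift.Basic

/-- three homomorphisms with given values on generators -/
theorem exists_homs {L X K : Type*} [Group L] [Finite L] [Group X] [Group K] {B : ℕ → L} {k1 k2 k3 : ℕ → K}
    (hgen : Subgroup.closure {x | ∃ i < 7, B i = x} = ⊤)
    (hB : ∀ r ∈ Bound.rels, ev (lt B 7) r = 1) (h1 : ∀ r ∈ Bound.rels, ev (lt k1 7) r = 1)
    (h2 : ∀ r ∈ Bound.rels, ev (lt k2 7) r = 1) (h3 : ∀ r ∈ Bound.rels, ev (lt k3 7) r = 1)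
    (hL : 696729600 ≤ Nat.card L) :
    ∃ q1 q2 q3 : L →* K, ∀ i < 7, q1 (B i) = k1 i ∧ q2 (B i) = k2 i ∧ q3 (B i) = k3 i := by
  set b : ℕ → L × K × K × K := fun i => (B i, k1 i, k2 i, k3 i) with hb
  have e0 : ∀ r, (ev (lt b 7) r).1 = ev (lt B 7) r := fun r => map_ev_lt b 7 (MonoidHom.fst L (K × K × K)) r
  have e1 : ∀ r, (ev (lt b 7) r).2.1 = ev (lt k1 7) r := fun r =>
    map_ev_lt b 7 ((MonoidHom.fst K (K × K)).comp (MonoidHom.snd L (K × K × K))) r
  have e2 : ∀ r, (ev (lt b 7) r).2.2.1 = ev (lt k2 7) r := fun r =>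
    map_ev_lt b 7 ((MonoidHom.fst K K).comp ((MonoidHom.snd K (K × K)).comp (MonoidHom.snd L (K × K × K)))) r
  have e3 : ∀ r, (ev (lt b 7) r).2.2.2 = ev (lt k3 7) r := fun r =>
    map_ev_lt b 7 ((MonoidHom.snd K K).comp ((MonoidHom.snd K (K × K)).comp (MonoidHom.snd L (K × K × K)))) r
  have hrel : ∀ r ∈ Bound.rels, ev (lt b 7) r = 1 := by
    intro r hr
    refine Prod.ext ?_ (Prod.ext ?_ (Prod.ext ?_ ?_))
    · rw [e0, hB r hr]; rfl
    · rw [e1, h1 r hr]; rfl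
    · rw [e2, h2 r hr]; rfl
    · rw [e3, h3 r hr]; rfl
  obtain ⟨hfin, hcard⟩ := Bound.bound hrel
  let p : Bound.S b 7 →* L := (MonoidHom.fst L (K × K × K)).comp (Bound.S b 7).subtype
  have hp : ∀ i < 7, p (Sub.bD b i) = B i := by
    intro i hi
    change (Sub.bD b i : L × K × K × K).1 = B i
    rw [Sub.coe_bD b hi]
  have hs : Function.Surjective p := by
    rw [← MonoidHom.range_eq_top, eq_top_iff, ← hgen, closure_le]
    rintro _ ⟨i, hi, rfl⟩
    exact ⟨Sub.bD b i, hp i hi⟩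
  let e : Bound.S b 7 ≃* L := MulEquiv.ofBijective p (hs.bijective_of_nat_card_le (hcard.trans hL))
  have he : ∀ i < 7, e.symm (B i) = Sub.bD b i := by
    intro i hi
    rw [MulEquiv.symm_apply_eq]
    exact (hp i hi).symm
  refine ⟨(((MonoidHom.fst K (K × K)).comp (MonoidHom.snd L (K × K × K))).comp (Bound.S b 7).subtype).comp
      e.symm.toMonoidHom,
    (((MonoidHom.fst K K).comp ((MonoidHom.snd K (K × K)).comp (MonoidHom.snd L (K × K × K)))).comp
      (Bound.S b 7).subtype).comp e.symm.toMonoidHom,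
    (((MonoidHom.snd K K).comp ((MonoidHom.snd K (K × K)).comp (MonoidHom.snd L (K × K × K)))).comp
      (Bound.S b 7).subtype).comp e.symm.toMonoidHom, ?_⟩
  intro i hi
  have h : ((e.symm (B i) : Bound.S b 7) : L × K × K × K) = b i := by
    rw [he i hi, Sub.coe_bD b hi]
  refine ⟨?_, ?_, ?_⟩
  · change ((e.symm (B i) : Bound.S b 7) : L × K × K × K).2.1 = k1 i
    rw [h]
  · change ((e.symm (B i) : Bound.S b 7) : L × K × K × K).2.2.1 = k2 i
    rw [h]
  · change ((e.symm (B i) : Bound.S b 7) : L × K × K × K).2.2.2 = k3 i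
    rw [h]

/-- **The letters of the universal 2-cover**: `B i` of odd order over `x i`, generators, and three homomorphisms -/
theorem exists_letters {L : Type*} [Group L] {π : L →* ClassicalGeometry.OrthAut1.P Q} (hπ : Cov π)
    (h4 : Nat.card π.ker = 4) :
    ∃ (B : ℕ → L) (q1 q2 q3 : L →* K₀), (∀ i, Odd (orderOf (B i))) ∧
      Subgroup.closure {x | ∃ i < 7, B i = x} = ⊤ ∧
      (∀ i < 7, q1 (B i) = toK b1 rel1 i ∧ q2 (B i) = toK b2 rel2 i ∧ q3 (B i) = toK b3 rel3 i) ∧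
      ∀ y, pi1 (q1 y) = π y := by
  obtain ⟨B, hB, hBo⟩ := hπ.exists_lifts odd_x
  have hgen := hπ.closure_eq_top hB closure_x
  have hrel : ∀ r ∈ Bound.rels, ev (lt B 7) r = 1 := fun r hr =>
    hπ.ev_eq_one hB hBo (odd := []) (by simp) (okr_rels r hr) (rel_x r hr)
  have := Main.finite_L hπ
  have hL : 696729600 ≤ Nat.card L := by
    have h := card_mul_index π.ker
    rw [index_ker, MonoidHom.range_eq_top.2 hπ.surj, card_top, h4, card_P] at h
    rw [← h]
  obtain ⟨q1, q2, q3, hq⟩ := exists_homs (X := ClassicalGeometry.OrthAut1.P Q) hgen hrel (rel_toK rel1)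
    (rel_toK rel2) (rel_toK rel3) hL
  refine ⟨B, q1, q2, q3, hBo, hgen, hq, ?_⟩
  have h : pi1.comp q1 = π := by
    apply MonoidHom.eq_of_eqOn_dense hgen
    rintro _ ⟨i, hi, rfl⟩
    change pi1 (q1 (B i)) = π (B i)
    rw [(hq i hi).1, hB]
    rfl
  intro y
  rw [← h]
  rfl

theorem q1_surj {L : Type*} [Group L] {B : ℕ → L} {q1 : L →* K₀}
    (hq : ∀ i < 7, q1 (B i) = toK b1 rel1 i) : Function.Surjective q1 := by
  rw [← MonoidHom.range_eq_top, eq_top_iff, ← closure_k1, closure_le]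
  rintro _ ⟨i, hi, rfl⟩
  exact ⟨B i, hq i hi⟩

/-- values of words -/
theorem map_word {L : Type*} [Group L] {B : ℕ → L} {q : L →* K₀} {b : ℕ → W}
    (h : ∀ r ∈ Bound.rels, ev (lt b 7) r = 1) (hq : ∀ i < 7, q (B i) = toK b h i) (w : List ℕ) :
    ((q (ev (lt B 7) w) : K₀) : W) = ev (lt b 7) w := by
  rw [map_ev_lt, Sub.ev_congr hq, coe_ev_toK]

end Cfsg.Agent.OddHalf.D9.EEight.Id.Letters
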