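import Mathlib
import Cfsg.Agent.OddHalf.D9.EEight.Id.Letters

/-!
# The core of innerness for `2².Ω₈⁺(2)`
-/

set_option autoImplicit false

namespace Cfsg.Agent.OddHalf.D9.EEight.Id.InnerCore

open Subgroup Cfsg.Agent.OddHalf.D9.EEight Cfsg.Agent.OddHalf.D9.EEight.Id.Gen
open Cfsg.Agent.OddHalf.D9.EEight.Id.ModTwo Cfsg.Agent.OddHalf.D9.EEight.Id.Onto
open Cfsg.Agent.OddHalf.D9.EEight.Id.Homs Cfsg.Agent.OddHalf.D9.EEight.Id.Main
open Cfsg.Agent.OddHalf.D9.EEight.Id.Letters Cfsg.Agent.OddHalf.D9.EEight.Id.HomData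
open Cfsg.Agent.SporadicRecognition.CosetCert Cfsg.Agent.KFacts.OddLift.Basic

theorem s_comm {i j : Fin 8} (h : GM i j = 0) (h' : GM j i = 0) : s i * s j = s j * s i := by
  apply ext_ap
  intro x
  rw [ap_mul, ap_mul, ap_s, ap_s, ap_s, ap_s, form_sub_left, form_sub_left, form_smul_left, form_smul_left,
    form_e_e, form_e_e, h, h', mul_zero, mul_zero, sub_zero, sub_zero]
  abel

theorem s_inv (i : Fin 8) : (s i)⁻¹ = s i := inv_eq_of_mul_eq_one_right (s_mul_s i)

theorem conj_t {k : Fin 7} (h1 : GM 0 (edg k).1 = 0) (h1' : GM (edg k).1 0 = 0) (h2 : GM 0 (edg k).2 = 0)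
    (h2' : GM (edg k).2 0 = 0) : s 0 * t k * (s 0)⁻¹ = t k := by
  unfold t
  rw [← mul_assoc, s_comm h1 h1', mul_assoc (s _) (s 0), s_comm h2 h2', ← mul_assoc, mul_inv_cancel_right]

theorem conj_t_zero : s 0 * t 0 * (s 0)⁻¹ = (t 0)⁻¹ := by
  have h : t 0 = s 0 * s 2 := rfl
  rw [h, mul_inv_rev, s_inv, s_inv, ← mul_assoc, s_mul_s, one_mul]

theorem conj_b1 {i : ℕ} (hi : i = 2 ∨ i = 3 ∨ i = 5 ∨ i = 6) : s 0 * b1 i * (s 0)⁻¹ = b1 i := by
  rcases hi with rfl | rfl | rfl | rfl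
  · exact conj_t (k := 2) (by decide) (by decide) (by decide) (by decide)
  · exact conj_t (k := 3) (by decide) (by decide) (by decide) (by decide)
  · exact conj_t (k := 5) (by decide) (by decide) (by decide) (by decide)
  · exact conj_t (k := 6) (by decide) (by decide) (by decide) (by decide)

theorem conj_b1_zero : s 0 * b1 0 * (s 0)⁻¹ = (b1 0)⁻¹ := conj_t_zero

/-- the second word -/
def w2' : List ℕ := (List.replicate 12 [1, 4, 12, 11, 6]).flatten

set_option maxRecDepth 100000 in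
theorem w2'_3 : ev (lt b3 7) w2' = neg := ev_of_isNeg tab3 (by decide +kernel)

theorem ev_flatten {G : Type*} [Group G] (g : ℕ → G) (l : List ℕ) (n : ℕ) :
    ev g (List.replicate n l).flatten = ev g l ^ n := by
  induction n with
  | zero => rw [List.replicate_zero, List.flatten_nil, ev_nil, pow_zero]
  | succ n ih => rw [List.replicate_succ, List.flatten_cons, ev_append, ih, pow_succ']

/-- the effect of the swap of the first letter -/
theorem ev_swap {G : Type*} [Group G] {B C : ℕ → G} (h0 : C 0 = (B 0)⁻¹) (h2 : C 2 = B 2) (h3 : C 3 = B 3)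
    (h5 : C 5 = B 5) (h6 : C 6 = B 6) : ev (lt C 7) w2 = ev (lt B 7) w2' := by
  unfold w2 w2'
  rw [ev_flatten, ev_flatten]
  congr 1
  have c0 : lt C 7 0 = C 0 := lt_even C 7 (by omega) (by omega)
  have c4 : lt C 7 4 = C 2 := lt_even C 7 (by omega) (by omega)
  have c12 : lt C 7 12 = C 6 := lt_even C 7 (by omega) (by omega)
  have c11 : lt C 7 11 = (C 5)⁻¹ := lt_odd C 7 (by omega) (by omega)
  have c6 : lt C 7 6 = C 3 := lt_even C 7 (by omega) (by omega)
  have d1 : lt B 7 1 = (B 0)⁻¹ := lt_odd B 7 (by omega) (by omega)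
  have d4 : lt B 7 4 = B 2 := lt_even B 7 (by omega) (by omega)
  have d12 : lt B 7 12 = B 6 := lt_even B 7 (by omega) (by omega)
  have d11 : lt B 7 11 = (B 5)⁻¹ := lt_odd B 7 (by omega) (by omega)
  have d6 : lt B 7 6 = B 3 := lt_even B 7 (by omega) (by omega)
  simp only [ev_cons, ev_nil, c0, c4, c12, c11, c6, d1, d4, d12, d11, d6, h0, h2, h3, h5, h6]

/-- the automorphism induced on a quotient -/
theorem exists_bar {K E : Type*} [Group K] [Group E] {f : K →* E} (hs : Function.Surjective f) (φ : MulAut K)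
    (hφ : ∀ z ∈ f.ker, φ z = z) : ∃ β : MulAut E, ∀ k, β (f k) = f (φ k) := by
  have hchar : (f.ker).map φ.toMonoidHom = f.ker := by
    apply le_antisymm
    · rintro _ ⟨z, hz, rfl⟩
      show φ z ∈ f.ker
      rw [hφ z hz]
      exact hz
    · intro z hz
      exact ⟨z, hz, hφ z hz⟩
  let e : K ⧸ f.ker ≃* E := QuotientGroup.quotientKerEquivOfSurjective f hs
  have he : ∀ k : K, e (QuotientGroup.mk k) = f k := fun k => rfl
  let c : K ⧸ f.ker ≃* K ⧸ f.ker := QuotientGroup.congr f.ker f.ker φ hchar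
  refine ⟨(e.symm.trans c).trans e, fun k => ?_⟩
  show e (c (e.symm (f k))) = f (φ k)
  rw [← he k, e.symm_apply_apply]
  rfl

/-- **An automorphism of the universal 2-cover, trivial on the kernel, is inner modulo the kernel.** -/
theorem inner_bar (hAut : ∀ α : MulAut K₀, ∃ w : W, ∀ k : K₀, (α k : W) = w * k * w⁻¹) {L : Type*} [Group L]
    {π : L →* ClassicalGeometry.OrthAut1.P Q} (hπ : Cov π) (h4 : Nat.card π.ker = 4) (α : MulAut L)
    (hα : ∀ z ∈ π.ker, α z = z) : ∃ x, ∀ y, π (α y) = x * π y * x⁻¹ := by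
  obtain ⟨B, q1, q2, q3, hBo, -, hq, hpi⟩ := exists_letters hπ h4
  have hs := q1_surj fun i hi => (hq i hi).1
  have hker : ∀ z ∈ q1.ker, z ∈ π.ker := by
    intro z hz
    rw [MonoidHom.mem_ker, ← hpi, MonoidHom.mem_ker.1 hz, map_one]
  obtain ⟨β, hβ⟩ := exists_bar hs α fun z hz => hα z (hker z hz)
  obtain ⟨w, hw⟩ := hAut β
  rcases Int.units_eq_one_or (det w) with hd | hd
  · refine ⟨pi1 ⟨w, hd⟩, fun y => ?_⟩
    have h1 : q1 (α y) = ⟨w, hd⟩ * q1 y * (⟨w, hd⟩ : K₀)⁻¹ := by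
      rw [← hβ]
      exact Subtype.ext (hw (q1 y))
    rw [← hpi, h1, map_mul, map_mul, map_inv, hpi]
  · exfalso
    have hdu : det ((s 0)⁻¹ * w) = 1 := by
      rw [map_mul, map_inv, det_s, hd]
      decide
    obtain ⟨k, hk⟩ := hs ⟨(s 0)⁻¹ * w, hdu⟩
    set φ : L →* L := α.toMonoidHom.comp (MulAut.conj k⁻¹).toMonoidHom with hφ
    have hφa : ∀ y, φ y = α (k⁻¹ * y * k) := fun y => by
      show α (k⁻¹ * y * k⁻¹⁻¹) = _
      rw [inv_inv]
    have h1 : ∀ y, ((q1 (φ y) : K₀) : W) = s 0 * (q1 y : W) * (s 0)⁻¹ := by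
      intro y
      rw [hφa, ← hβ, hw]
      simp only [map_mul, map_inv, hk]
      show w * (((s 0)⁻¹ * w)⁻¹ * (q1 y : W) * ((s 0)⁻¹ * w)) * w⁻¹ = _
      group
    have ho : ∀ i, Odd (orderOf (φ (B i))) := fun i =>
      Odd.of_dvd_nat (hBo i) (orderOf_map_dvd φ (B i))
    have hc : ∀ {i : ℕ} {c : L}, i < 7 → Odd (orderOf c) → (q1 c : W) = s 0 * b1 i * (s 0)⁻¹ → φ (B i) = c := by
      intro i c hi hco hqc
      refine hπ.eq_of_odd (ho i) hco ?_
      rw [← hpi, ← hpi]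
      congr 1
      apply Subtype.ext
      rw [h1, hqc, (hq i hi).1, coe_toK rel1 hi]
    have hB0 : φ (B 0) = (B 0)⁻¹ := hc (by omega) (by rw [orderOf_inv]; exact hBo 0) (by
      rw [conj_b1_zero, map_inv, (hq 0 (by omega)).1, Subgroup.coe_inv, coe_toK rel1 (by omega)])
    have hBi : ∀ i, i = 2 ∨ i = 3 ∨ i = 5 ∨ i = 6 → φ (B i) = B i := fun i hi =>
      hc (by omega) (hBo i) (by rw [conj_b1 hi, (hq i (by omega)).1, coe_toK rel1 (by omega)])
    set n := ev (lt B 7) w2 with hn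
    have hq1 : q1 n = negK := Subtype.ext (by
      rw [hn, map_word rel1 fun i hi => (hq i hi).1]
      exact w2_1)
    have hnk : n ∈ π.ker := by
      rw [MonoidHom.mem_ker, ← hpi, hq1]
      exact pi1_eq_one.2 (Or.inr rfl)
    have hφn : φ n = n := by
      have h2 := mem_center_iff.1 (hπ.central hnk) k⁻¹
      rw [hφa, h2, inv_mul_cancel_right, hα n hnk]
    have hφn' : φ n = ev (lt B 7) w2' := by
      rw [hn, map_ev_lt]
      exact ev_swap hB0 (hBi 2 (Or.inl rfl)) (hBi 3 (by omega)) (hBi 5 (by omega)) (hBi 6 (by omega))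
    have h3 : ((q3 n : K₀) : W) = 1 := by
      rw [hn, map_word rel3 fun i hi => (hq i hi).2.2]
      exact w2_3
    have h5 : ((q3 n : K₀) : W) = neg := by
      rw [← hφn, hφn', map_word rel3 fun i hi => (hq i hi).2.2]
      exact w2'_3
    exact neg_ne_one (h5.symm.trans h3)

end Cfsg.Agent.OddHalf.D9.EEight.Id.InnerCore
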